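import Groth.Agent.FinHopf.Local
import Mathlib.RingTheory.HopfAlgebra.Convolution
import Mathlib.RingTheory.HopfAlgebra.TensorProduct
import Mathlib.RingTheory.Ideal.Quotient.Operations
import Mathlib.RingTheory.Artinian.Module
import Mathlib.FieldTheory.IsAlgClosed.Basic
import Mathlib.Algebra.CharP.Lemmas
import Mathlib.GroupTheory.OrderOfElement

/-!
# Finite group schemes are killed by their order

For a finite commutative Hopf algebra `A` over an algebraically closed field, the reduced part
has the group of points as spectrum, all local factors have the same dimension `d`, a power of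
the exponential characteristic, and `id ^ finrank = 1` in the convolution monoid.
-/

universe u v w

open scoped TensorProduct
open WithConv

namespace Groth.Agent.FinHopf

section Compose

variable {R : Type*} [CommRing R] {C : Type*} [CommRing C] [Bialgebra R C]
  {A : Type*} [CommRing A] [Algebra R A] {B : Type*} [CommRing B] [Algebra R B]

/-- Postcomposition as a monoid hom of convolution monoids. -/
noncomputable def postComp (h : A →ₐ[R] B) :
    WithConv (C →ₐ[R] A) →* WithConv (C →ₐ[R] B) where
  toFun f := toConv (h.comp f.ofConv)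
  map_one' := by
    apply WithConv.ofConv_injective
    ext c
    exact h.commutes _
  map_mul' f g := by
    apply WithConv.ofConv_injective
    exact AlgHom.comp_convMul_distrib h f g

@[simp] theorem postComp_apply (h : A →ₐ[R] B) (f : WithConv (C →ₐ[R] A)) (c : C) :
    (postComp h f).ofConv c = h (f.ofConv c) := rfl

end Compose

section AlgClosed

variable (k : Type u) [Field k] (A : Type v) [CommRing A] [HopfAlgebra k A] [Module.Finite k A]

local notation "Pt" => WithConv (A →ₐ[k] k)

/-- The augmentation. -/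
noncomputable abbrev counitA : A →ₐ[k] k := Bialgebra.counitAlgHom k A

theorem isComul_comul : IsComul (Bialgebra.counitAlgHom k A) (Bialgebra.comulAlgHom k A) :=
  ⟨fun a => by
    show TensorProduct.lid k A (LinearMap.rTensor A Coalgebra.counit (Coalgebra.comul a)) = a
    rw [Coalgebra.rTensor_counit_comul]; simp,
  fun a => by
    show TensorProduct.rid k A (LinearMap.lTensor A Coalgebra.counit (Coalgebra.comul a)) = a
    rw [Coalgebra.lTensor_counit_comul]; simp⟩

theorem finite_pt : Finite Pt := by
  have : IsArtinianRing A := IsArtinianRing.of_finite k A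
  refine Finite.of_injective (β := MaximalSpectrum A) (fun γ => ⟨RingHom.ker γ.ofConv,
    RingHom.ker_isMaximal_of_surjective _ fun c => ⟨algebraMap k A c, γ.ofConv.commutes c⟩⟩) ?_
  intro γ δ h
  have h' : RingHom.ker γ.ofConv = RingHom.ker δ.ofConv := congrArg MaximalSpectrum.asIdeal h
  apply WithConv.ofConv_injective
  ext a
  have : a - algebraMap k A (γ.ofConv a) ∈ RingHom.ker δ.ofConv := h' ▸ (by simp)
  have := RingHom.mem_ker.1 this
  rw [map_sub, AlgHom.commutes, Algebra.algebraMap_self_apply, sub_eq_zero] at this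
  exact this.symm

variable {k A}

/-- The maximal ideal of a rational point. -/
noncomputable abbrev ptIdeal (γ : WithConv (A →ₐ[k] k)) : Ideal A := RingHom.ker γ.ofConv

/-- Translation by a rational point. -/
noncomputable def transl (γ : WithConv (A →ₐ[k] k)) : A →ₐ[k] A :=
  (postComp (Algebra.ofId k A) γ * toConv (AlgHom.id k A)).ofConv

theorem transl_comp (γ δ : WithConv (A →ₐ[k] k)) :
    (transl γ).comp (transl δ) = transl (δ * γ) := by
  have h := (postComp (C := A) (transl γ)).map_mul (postComp (Algebra.ofId k A) δ)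
    (toConv (AlgHom.id k A))
  have h1 : postComp (C := A) (transl γ) (postComp (Algebra.ofId k A) δ) =
      postComp (Algebra.ofId k A) δ := by
    apply WithConv.ofConv_injective
    ext c
    exact (transl γ).commutes _
  have h2 : postComp (C := A) (transl γ) (toConv (AlgHom.id k A)) =
      postComp (Algebra.ofId k A) γ * toConv (AlgHom.id k A) := by
    apply WithConv.ofConv_injective
    ext c
    rfl
  rw [h1, h2, ← mul_assoc, ← map_mul] at h
  exact congrArg WithConv.ofConv h

theorem transl_one : transl (1 : WithConv (A →ₐ[k] k)) = AlgHom.id k A := by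
  rw [transl, map_one, one_mul]

/-- Translation as an automorphism. -/
noncomputable def translEquiv (γ : WithConv (A →ₐ[k] k)) : A ≃ₐ[k] A :=
  AlgEquiv.ofAlgHom (transl γ) (transl γ⁻¹)
    (by rw [transl_comp, inv_mul_cancel, transl_one])
    (by rw [transl_comp, mul_inv_cancel, transl_one])

theorem counit_transl (γ : WithConv (A →ₐ[k] k)) (a : A) :
    Bialgebra.counitAlgHom k A (translEquiv γ a) = γ.ofConv a := by
  have h := (postComp (C := A) (Bialgebra.counitAlgHom k A)).map_mul
    (postComp (Algebra.ofId k A) γ) (toConv (AlgHom.id k A))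
  have h1 : postComp (C := A) (Bialgebra.counitAlgHom k A) (postComp (Algebra.ofId k A) γ) = γ := by
    apply WithConv.ofConv_injective
    ext c
    exact (Bialgebra.counitAlgHom k A).commutes _
  have h2 : postComp (C := A) (Bialgebra.counitAlgHom k A) (toConv (AlgHom.id k A)) = 1 := by
    apply WithConv.ofConv_injective
    ext c
    rfl
  rw [h1, h2, mul_one] at h
  exact DFunLike.congr_fun (congrArg WithConv.ofConv h) a

theorem map_ptIdeal (γ : WithConv (A →ₐ[k] k)) :
    (ptIdeal γ).map (translEquiv γ) = ptIdeal (1 : WithConv (A →ₐ[k] k)) := by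
  ext b
  obtain ⟨a, rfl⟩ := (translEquiv γ).surjective b
  rw [Ideal.mem_map_iff_of_surjective _ (translEquiv γ).surjective]
  have : translEquiv γ a ∈ ptIdeal (1 : WithConv (A →ₐ[k] k)) ↔ γ.ofConv a = 0 := by
    rw [← counit_transl γ a]
    rfl
  rw [this]
  constructor
  · rintro ⟨c, hc, e⟩
    rw [← (translEquiv γ).injective e]
    exact hc
  · exact fun h => ⟨a, h, rfl⟩

theorem finrank_quotient_ptIdeal_pow (γ : WithConv (A →ₐ[k] k)) (N : ℕ) :
    Module.finrank k (A ⧸ ptIdeal γ ^ N) = Module.finrank k (A ⧸ ptIdeal (1 : Pt) ^ N) :=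
  (Ideal.quotientEquivAlg _ _ (translEquiv γ)
    (by
      show _ = (ptIdeal γ ^ N).map (translEquiv γ)
      rw [Ideal.map_pow, map_ptIdeal])).toLinearEquiv.finrank_eq

/-- In a finite dimensional algebra a nilpotent ideal `I` has `I ^ dim = 0`. -/
theorem pow_finrank_eq_bot {Q : Type*} [CommRing Q] [Algebra k Q] [Module.Finite k Q]
    (I : Ideal Q) (hI : IsNilpotent I) : I ^ Module.finrank k Q = ⊥ := by
  obtain ⟨M, hM⟩ := hI
  have key : ∀ i, I ^ i = ⊥ ∨ Module.finrank k ((I ^ i).restrictScalars k) + i ≤ Module.finrank k Q := by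
    intro i
    induction i with
    | zero => exact Or.inr (by simpa using Submodule.finrank_le _)
    | succ i ih =>
      rcases ih with h | h
      · exact Or.inl (by rw [pow_succ, h, Ideal.bot_mul])
      · by_cases he : I ^ (i + 1) = I ^ i
        · refine Or.inl ?_
          have : ∀ j, I ^ (i + j) = I ^ i := by
            intro j
            induction j with
            | zero => rfl
            | succ j hj => rw [← Nat.add_assoc, pow_succ, hj, ← pow_succ, he]
          rw [he, ← this M, pow_add, hM, mul_zero, Ideal.zero_eq_bot]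
        · refine Or.inr ?_
          have hlt : (I ^ (i + 1)).restrictScalars k < (I ^ i).restrictScalars k :=
            lt_of_le_of_ne (Ideal.pow_le_pow_right i.le_succ)
              fun e => he (Submodule.restrictScalars_injective k Q Q e)
          have := Submodule.finrank_lt_finrank_of_lt hlt
          omega
  rcases key (Module.finrank k Q) with h | h
  · exact h
  · have h0 : Module.finrank k ((I ^ Module.finrank k Q).restrictScalars k) = 0 := by omega
    exact Submodule.restrictScalars_injective k Q Q (Submodule.finrank_eq_zero.1 h0)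

variable [IsAlgClosed k]

theorem exists_pt (m : Ideal A) [m.IsMaximal] : ∃ γ : WithConv (A →ₐ[k] k), ptIdeal γ = m := by
  have : Algebra.IsIntegral k (A ⧸ m) := Algebra.IsIntegral.of_finite k _
  let e : k ≃ₐ[k] A ⧸ m :=
    AlgEquiv.ofBijective (Algebra.ofId k (A ⧸ m)) IsAlgClosed.algebraMap_bijective_of_isIntegral
  refine ⟨toConv ((e.symm : A ⧸ m →ₐ[k] k).comp (Ideal.Quotient.mkₐ k m)), ?_⟩
  ext a
  simp [ptIdeal, RingHom.mem_ker, Ideal.Quotient.eq_zero_iff_mem]

theorem iInf_ptIdeal_le : (⨅ γ : Pt, ptIdeal γ) ≤ nilradical A := by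
  intro a ha
  rw [nilradical_eq_sInf, Submodule.mem_sInf]
  intro (p : Ideal A) hp
  have : IsArtinianRing A := IsArtinianRing.of_finite k A
  have : p.IsPrime := hp
  have := IsArtinianRing.isMaximal_of_isPrime p
  obtain ⟨γ, rfl⟩ := exists_pt (k := k) p
  exact (Submodule.mem_iInf _).1 ha γ

/-- The structure of a finite Hopf algebra over an algebraically closed field. -/
theorem exists_split :
    ∃ (d a : ℕ), Module.finrank k A = Nat.card Pt * d ∧ d = ringExpChar k ^ a ∧
      (⨅ γ : Pt, ptIdeal γ) ^ d = ⊥ := by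
  classical
  have := finite_pt k A
  cases nonempty_fintype Pt
  have : IsArtinianRing A := IsArtinianRing.of_finite k A
  let J : Ideal A := ⨅ γ : Pt, ptIdeal γ
  have : IsNoetherianRing A := isNoetherian_of_tower k inferInstance
  obtain ⟨N, hN⟩ : IsNilpotent J := (Ideal.FG.isNilpotent_iff_le_nilradical (IsNoetherian.noetherian J)).2
    iInf_ptIdeal_le
  have hmax : ∀ γ : Pt, (ptIdeal γ).IsMaximal := fun γ =>
    RingHom.ker_isMaximal_of_surjective _ fun c => ⟨algebraMap k A c, γ.ofConv.commutes c⟩
  have hne : ∀ γ δ : Pt, γ ≠ δ → ptIdeal γ ≠ ptIdeal δ := by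
    intro γ δ hne h
    apply hne
    apply WithConv.ofConv_injective
    ext a
    have : a - algebraMap k A (γ.ofConv a) ∈ ptIdeal δ := h ▸ (by simp [ptIdeal])
    have := RingHom.mem_ker.1 this
    rw [map_sub, AlgHom.commutes, Algebra.algebraMap_self_apply, sub_eq_zero] at this
    exact this.symm
  let f : Pt → Ideal A := fun γ => ptIdeal γ ^ N
  have hco : Pairwise (Function.onFun IsCoprime f) := fun γ δ h => by
    show IsCoprime (f γ) (f δ)
    rw [Ideal.isCoprime_iff_sup_eq]
    exact Ideal.pow_sup_pow_eq_top ((hmax γ).coprime_of_ne (hmax δ) (hne γ δ h))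
  have hinf : (⨅ γ, f γ) = ⊥ := by
    have h1 : ∏ γ, f γ = ⨅ γ ∈ (Finset.univ : Finset Pt), f γ :=
      Ideal.prod_eq_iInf_of_pairwise_isCoprime fun a _ b _ h => hco h
    simp only [Finset.mem_univ, iInf_pos] at h1
    have h2 : ∏ γ, ptIdeal (k := k) γ = J := by
      have := Ideal.prod_eq_iInf_of_pairwise_isCoprime (s := (Finset.univ : Finset Pt))
        (J := fun γ => ptIdeal γ) fun a _ b _ h =>
          Ideal.isCoprime_iff_sup_eq.2 ((hmax a).coprime_of_ne (hmax b) (hne a b h))
      simpa using this
    rw [← h1, Finset.prod_pow, h2, hN]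
    rfl
  let Φ : A →ₐ[k] (∀ γ, A ⧸ f γ) := Pi.algHom k _ fun γ => Ideal.Quotient.mkₐ k (f γ)
  have hΦ : Function.Bijective Φ := by
    refine ⟨(injective_iff_map_eq_zero Φ).2 fun a ha => ?_, fun x => ?_⟩
    · rw [← Ideal.mem_bot, ← hinf, Submodule.mem_iInf]
      intro γ
      exact Ideal.Quotient.eq_zero_iff_mem.1 (congr_fun ha γ)
    · obtain ⟨r, hr⟩ := Ideal.pi_quotient_surjective hco x
      exact ⟨r, funext hr⟩
  let d := Module.finrank k (A ⧸ f 1)
  have hn : Module.finrank k A = Nat.card Pt * d := by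
    rw [(AlgEquiv.ofBijective Φ hΦ).toLinearEquiv.finrank_eq, Module.finrank_pi_fintype,
      Finset.sum_congr rfl fun γ _ => finrank_quotient_ptIdeal_pow γ N, Finset.sum_const,
      Finset.card_univ, Nat.card_eq_fintype_card, smul_eq_mul]
  -- the Hopf structure descends to the local factor at the origin
  let m : Ideal A := ptIdeal (1 : Pt)
  have hmε : m = RingHom.ker (Bialgebra.counitAlgHom k A) := by
    ext a; rfl
  have hN0 : N ≠ 0 := by
    rintro rfl
    have : (1 : A) ∈ (⊥ : Ideal A) := by
      rw [← Ideal.zero_eq_bot, ← hN, pow_zero, Ideal.one_eq_top]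
      trivial
    have h01 : (1 : k) = 0 := by
      simpa using congrArg (Bialgebra.counitAlgHom k A) (Ideal.mem_bot.1 this)
    exact one_ne_zero h01
  have hidem : m ^ N = m ^ (N + N) := by
    refine le_antisymm ?_ (Ideal.pow_le_pow_right (Nat.le_add_right _ _))
    let K : Ideal A := ∏ γ ∈ Finset.univ.erase (1 : Pt), f γ
    have hK : m ^ N * K = ⊥ := by
      show f 1 * K = ⊥
      rw [Finset.mul_prod_erase _ f (Finset.mem_univ _), ← hinf]
      have h1 : ∏ γ, f γ = ⨅ γ ∈ (Finset.univ : Finset Pt), f γ :=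
        Ideal.prod_eq_iInf_of_pairwise_isCoprime fun a _ b _ h => hco h
      simpa using h1
    have hsup : m ^ N ⊔ K = ⊤ :=
      Ideal.sup_prod_eq_top fun γ hγ => Ideal.isCoprime_iff_sup_eq.1
        (hco (Finset.ne_of_mem_erase hγ).symm)
    refine le_of_eq ?_
    calc m ^ N = m ^ N * (m ^ N ⊔ K) := by rw [hsup, Ideal.mul_top]
      _ = m ^ (N + N) := by rw [Ideal.mul_sup, hK, sup_bot_eq, pow_add]
  have hidem' : ∀ j, m ^ N ≤ m ^ (N * (j + 1)) := by
    intro j
    induction j with
    | zero => simp
    | succ j ih =>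
      calc m ^ N = m ^ N * m ^ N := by rw [← pow_add]; exact hidem
        _ ≤ m ^ (N * (j + 1)) * m ^ N := Ideal.mul_mono_left ih
        _ = m ^ (N * (j + 1 + 1)) := by rw [← pow_add, ← Nat.mul_succ]
  let ε₀ : (A ⧸ f 1) →ₐ[k] k := Ideal.Quotient.liftₐ _ (Bialgebra.counitAlgHom k A) fun a ha =>
    RingHom.mem_ker.1 (hmε ▸ Ideal.pow_le_self hN0 ha)
  have hnil : ∀ q, ε₀ q = 0 → IsNilpotent q := by
    intro q hq
    obtain ⟨a, rfl⟩ := Ideal.Quotient.mk_surjective q
    refine ⟨N, ?_⟩
    rw [← map_pow, Ideal.Quotient.eq_zero_iff_mem]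
    exact Ideal.pow_mem_pow (show a ∈ m from hmε ▸ hq) N
  let π : A →ₐ[k] (A ⧸ f 1) ⊗[k] (A ⧸ f 1) :=
    (Algebra.TensorProduct.map (Ideal.Quotient.mkₐ k (f 1)) (Ideal.Quotient.mkₐ k (f 1))).comp
      (Bialgebra.comulAlgHom k A)
  have hψ : ∀ w : (A ⧸ f 1) ⊗[k] (A ⧸ f 1),
      w - algebraMap k _ (Algebra.TensorProduct.lift ε₀ ε₀ (fun _ _ => Commute.all _ _) w) ∈
        nilradical ((A ⧸ f 1) ⊗[k] (A ⧸ f 1)) := by
    intro w
    induction w using TensorProduct.induction_on with
    | zero => simp
    | add u w hu hw =>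
      convert add_mem hu hw using 1
      rw [map_add, map_add]; abel
    | tmul q r =>
      have e : q ⊗ₜ[k] r - algebraMap k _ (Algebra.TensorProduct.lift ε₀ ε₀ (fun _ _ => Commute.all _ _) (q ⊗ₜ r))
          = (q - algebraMap k _ (ε₀ q)) ⊗ₜ[k] r + algebraMap k _ (ε₀ q) ⊗ₜ[k] (r - algebraMap k _ (ε₀ r)) := by
        rw [Algebra.TensorProduct.lift_tmul, map_mul, TensorProduct.sub_tmul, TensorProduct.tmul_sub]
        rw [show algebraMap k ((A ⧸ f 1) ⊗[k] (A ⧸ f 1)) (ε₀ q) * algebraMap k _ (ε₀ r) =
          algebraMap k (A ⧸ f 1) (ε₀ q) ⊗ₜ[k] algebraMap k (A ⧸ f 1) (ε₀ r) by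
            rw [Algebra.TensorProduct.algebraMap_apply (ε₀ q), ← Algebra.TensorProduct.includeRight.commutes (ε₀ r),
              Algebra.TensorProduct.includeRight_apply, Algebra.TensorProduct.tmul_mul_tmul, mul_one, one_mul]]
        abel
      rw [e, mem_nilradical]
      refine (Commute.all _ _).isNilpotent_add ?_ ?_
      · obtain ⟨n, hn⟩ := hnil (q - algebraMap k _ (ε₀ q)) (by simp)
        exact ⟨n + 1, by rw [Algebra.TensorProduct.tmul_pow, pow_succ, hn, zero_mul, TensorProduct.zero_tmul]⟩
      · obtain ⟨n, hn⟩ := hnil (r - algebraMap k _ (ε₀ r)) (by simp)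
        exact ⟨n + 1, by rw [Algebra.TensorProduct.tmul_pow, pow_succ (r - _), hn, zero_mul, TensorProduct.tmul_zero]⟩
  have hπm : m.map π ≤ nilradical _ := by
    rw [Ideal.map_le_iff_le_comap]
    intro a ha
    have h0 : Algebra.TensorProduct.lift ε₀ ε₀ (fun _ _ => Commute.all _ _) (π a) = 0 := by
      have h1 : ∀ z : A ⊗[k] A, Algebra.TensorProduct.lift ε₀ ε₀ (fun _ _ => Commute.all _ _)
          (Algebra.TensorProduct.map (Ideal.Quotient.mkₐ k (f 1)) (Ideal.Quotient.mkₐ k (f 1)) z) =
          Bialgebra.counitAlgHom k A (TensorProduct.lid k A (LinearMap.rTensor A (Bialgebra.counitAlgHom k A).toLinearMap z)) := by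
        intro z
        induction z using TensorProduct.induction_on with
        | zero => simp
        | add u w hu hw => simp only [map_add, hu, hw]
        | tmul x y => simp [ε₀]
      show Algebra.TensorProduct.lift ε₀ ε₀ (fun _ _ => Commute.all _ _)
        (Algebra.TensorProduct.map _ _ (Bialgebra.comulAlgHom k A a)) = 0
      rw [h1, (isComul_comul k A).left]
      exact RingHom.mem_ker.1 (hmε ▸ ha)
    have := hψ (π a)
    rwa [h0, map_zero, sub_zero] at this
  have hπ : ∀ a ∈ f 1, π a = 0 := by
    intro a ha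
    have : IsNoetherianRing ((A ⧸ f 1) ⊗[k] (A ⧸ f 1)) := isNoetherian_of_tower k inferInstance
    obtain ⟨K, hK⟩ := IsNoetherianRing.isNilpotent_nilradical ((A ⧸ f 1) ⊗[k] (A ⧸ f 1))
    have h1 : a ∈ m ^ K := Ideal.pow_le_pow_right (by nlinarith [Nat.pos_of_ne_zero hN0]) (hidem' K ha)
    have h2 : π a ∈ (⊥ : Ideal _) := by
      rw [← Ideal.zero_eq_bot, ← hK]
      exact Ideal.pow_right_mono hπm K (by rw [← Ideal.map_pow]; exact Ideal.mem_map_of_mem π h1)
    simpa using h2
  let Δ₀ : (A ⧸ f 1) →ₐ[k] (A ⧸ f 1) ⊗[k] (A ⧸ f 1) := Ideal.Quotient.liftₐ _ π hπ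
  have hcom : IsComul ε₀ Δ₀ := by
    constructor <;> intro q <;> obtain ⟨a, rfl⟩ := Ideal.Quotient.mk_surjective q
    · refine Eq.trans ?_ (congrArg (Ideal.Quotient.mkₐ k (f 1)) ((isComul_comul k A).left a))
      show TensorProduct.lid k _ (LinearMap.rTensor _ ε₀.toLinearMap (Algebra.TensorProduct.map _ _ (Bialgebra.comulAlgHom k A a))) = _
      induction Bialgebra.comulAlgHom k A a using TensorProduct.induction_on with
      | zero => simp
      | add u w hu hw => simp only [map_add, hu, hw]
      | tmul x y => simp [ε₀]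
    · refine Eq.trans ?_ (congrArg (Ideal.Quotient.mkₐ k (f 1)) ((isComul_comul k A).right a))
      show TensorProduct.rid k _ (LinearMap.lTensor _ ε₀.toLinearMap (Algebra.TensorProduct.map _ _ (Bialgebra.comulAlgHom k A a))) = _
      induction Bialgebra.comulAlgHom k A a using TensorProduct.induction_on with
      | zero => simp
      | add u w hu hw => simp only [map_add, hu, hw]
      | tmul x y => simp [ε₀]
  obtain ⟨e, he⟩ := exists_finrank_eq_pow hcom hnil
  refine ⟨d, e, hn, he, eq_bot_iff.2 ?_⟩
  rw [← hinf]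
  refine le_iInf fun γ => ?_
  have hq : IsNilpotent ((ptIdeal γ).map (Ideal.Quotient.mk (f γ))) :=
    ⟨N, by rw [← Ideal.map_pow, Ideal.map_quotient_self, Ideal.zero_eq_bot]⟩
  have := pow_finrank_eq_bot (k := k) _ hq
  rw [finrank_quotient_ptIdeal_pow γ N, ← Ideal.map_pow, Ideal.map_eq_bot_iff_le_ker, Ideal.mk_ker] at this
  exact (Ideal.pow_right_mono (iInf_le _ γ) d).trans this

/-- The convolution power with exponent `finrank` of the identity is trivial. -/
theorem convPow_id_eq_one : (toConv (AlgHom.id k A)) ^ Module.finrank k A = 1 := by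
  classical
  have := finite_pt k A
  obtain ⟨d, a, hn, hd, hJ⟩ := exists_split (k := k) (A := A)
  rw [hn, pow_mul]
  let h : WithConv (A →ₐ[k] A) := toConv (AlgHom.id k A) ^ Nat.card Pt
  show h ^ d = 1
  have hγ : ∀ γ : Pt, ∀ x, γ.ofConv (h.ofConv x) = algebraMap k k (Coalgebra.counit (R := k) x) := by
    intro γ x
    have h1 : postComp γ.ofConv h = γ ^ Nat.card Pt := by
      rw [map_pow]
      congr 1
    rw [pow_card_eq_one'] at h1
    exact DFunLike.congr_fun (congrArg WithConv.ofConv h1) x
  let J : Ideal A := ⨅ γ : Pt, ptIdeal γ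
  let u : WithConv (A →ₗ[k] A) := toConv h.ofConv.toLinearMap - 1
  have hu : ∀ j : ℕ, ∀ x, (u ^ j) x ∈ J ^ j := by
    intro j
    induction j with
    | zero => intro x; simp
    | succ j ih =>
      intro x
      rw [pow_succ u, (Coalgebra.Repr.arbitrary k x).convMul_apply, pow_succ]
      refine Submodule.sum_mem _ fun i _ => Ideal.mul_mem_mul (ih _) ?_
      rw [Submodule.mem_iInf]
      intro γ
      show γ.ofConv (h.ofConv _ - algebraMap k A (Coalgebra.counit _)) = 0
      rw [map_sub, hγ, AlgHom.commutes, sub_self]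
  have hud : u ^ d = 0 := by
    ext x
    have := hu d x
    rw [hJ, Ideal.mem_bot] at this
    simpa using this
  have hlin : toConv (h ^ d).ofConv.toLinearMap = 1 := by
    rw [AlgHom.toLinearMap_convPow, ← sub_add_cancel (toConv h.ofConv.toLinearMap) 1]
    show (u + 1) ^ d = 1
    have hinj : Function.Injective (algebraMap k (WithConv (A →ₗ[k] A))) := by
      intro s t hst
      have := congrArg (fun F : WithConv (A →ₗ[k] A) => Bialgebra.counitAlgHom k A (F 1)) hst
      simpa using this
    have := expChar_of_injective_algebraMap hinj (ringExpChar k)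
    rw [hd] at hud ⊢
    rw [add_pow_expChar_pow_of_commute _ _ (Commute.one_right u), hud, one_pow, zero_add]
  apply WithConv.ofConv_injective
  apply AlgHom.toLinearMap_injective
  exact congrArg WithConv.ofConv hlin

/-- If the dimension is prime to the characteristic, the algebra is reduced. -/
theorem isReduced_of_finrank_ne_zero (hn0 : (Module.finrank k A : k) ≠ 0) : IsReduced A := by
  classical
  obtain ⟨d, a, hn, hd, hJ⟩ := exists_split (k := k) (A := A)
  have hd1 : d = 1 := by
    rcases Nat.eq_zero_or_pos a with rfl | ha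
    · simpa using hd
    obtain ⟨p, hp⟩ := CharP.exists k
    obtain hpr | rfl := CharP.char_is_prime_or_zero k p
    · exfalso
      have : Fact p.Prime := ⟨hpr⟩
      rw [hn, hd, ringExpChar.eq k p, Nat.cast_mul, Nat.cast_pow, CharP.cast_eq_zero k p,
        zero_pow ha.ne', mul_zero] at hn0
      exact hn0 rfl
    · have := CharP.charP_to_charZero k
      simpa [ringExpChar.eq_one] using hd
  rw [hd1, pow_one] at hJ
  refine ⟨fun x hx => ?_⟩
  rw [← Ideal.mem_bot, ← hJ, Submodule.mem_iInf]
  intro γ
  exact (hx.map γ.ofConv).eq_zero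

end AlgClosed

end Groth.Agent.FinHopf
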