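import Groth.Agent.FinHopf.Local
import Groth.Agent.FinHopf.Power
import Mathlib.RingTheory.Ideal.Cotangent
import Mathlib.RingTheory.LocalRing.Module
import Mathlib.RingTheory.LocalRing.ResidueField.Basic
import Mathlib.RingTheory.IntegralClosure.IsIntegralClosure.Basic
import Mathlib.RingTheory.TensorProduct.Free
import Mathlib.RingTheory.Finiteness.Basic

/-!
# Truncated polynomial algebras: Frobenius kernels and height one group schemes
-/

universe u v w

open scoped TensorProduct

namespace Groth.Agent.FinHopf

section Field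

variable {k : Type u} [Field k] {A : Type v} [CommRing A] [Algebra k A] (ε : A →ₐ[k] k)

theorem finrank_cotangent_eq {r : ℕ} (x : Fin r → A) (hx : ∀ i, ε (x i) = 0)
    (D : Fin r → Derivation k A A) (hgen : Algebra.adjoin k (Set.range x) = ⊤)
    (hD : ∀ i j, D i (x j) = if i = j then 1 else 0) :
    Module.finrank k (RingHom.ker ε.toRingHom).Cotangent = r := by
  classical
  let I : Ideal A := RingHom.ker ε.toRingHom
  have hexp : ∀ a : A, a - algebraMap k A (ε a) - ∑ i, ε (D i a) • x i ∈ I ^ 2 := by
    intro a
    have ha : a ∈ Algebra.adjoin k (Set.range x) := hgen ▸ Algebra.mem_top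
    induction ha using Algebra.adjoin_induction with
    | mem a ha =>
      obtain ⟨j, rfl⟩ := ha
      simp [hx, hD, apply_ite ε, ite_smul]
    | algebraMap c => simp
    | add a b _ _ ha hb =>
      convert add_mem ha hb using 1
      simp only [map_add, add_smul, Finset.sum_add_distrib]
      abel
    | mul a b _ _ ha hb =>
      have hI : (a - algebraMap k A (ε a)) * (b - algebraMap k A (ε b)) ∈ I ^ 2 := by
        rw [pow_two]
        exact Ideal.mul_mem_mul (by simp [I]) (by simp [I])
      have hS : ∑ i, ε (D i (a * b)) • x i =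
          algebraMap k A (ε a) * ∑ i, ε (D i b) • x i + algebraMap k A (ε b) * ∑ i, ε (D i a) • x i := by
        rw [Finset.mul_sum, Finset.mul_sum, ← Finset.sum_add_distrib]
        refine Finset.sum_congr rfl fun i _ => ?_
        simp only [Derivation.leibniz, smul_eq_mul, map_add, map_mul, add_smul, Algebra.smul_def]
        ring
      convert add_mem (add_mem hI (Ideal.mul_mem_left _ (algebraMap k A (ε a)) hb))
        (Ideal.mul_mem_left _ (algebraMap k A (ε b)) ha) using 1
      rw [hS, map_mul ε, map_mul (algebraMap k A)]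
      ring
  let toC : I.restrictScalars k →ₗ[k] I.Cotangent := I.toCotangent.restrictScalars k
  let ψ : (Fin r → k) →ₗ[k] I.Cotangent :=
    (Fintype.linearCombination k fun i => toC ⟨x i, hx i⟩)
  have hψ : ∀ c : Fin r → k, ψ c = I.toCotangent ⟨∑ i, c i • x i,
      Submodule.sum_mem (I.restrictScalars k) fun i _ => Submodule.smul_mem _ _ (hx i)⟩ := by
    intro c
    show Fintype.linearCombination k _ c = _
    rw [Fintype.linearCombination_apply]
    simp only [← map_smul, ← map_sum]
    show I.toCotangent _ = _
    congr 1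
    apply Subtype.ext
    simp
  have hbij : Function.Bijective ψ := by
    refine ⟨(injective_iff_map_eq_zero ψ).2 fun c hc => ?_, fun q => ?_⟩
    · rw [hψ, Ideal.toCotangent_eq_zero] at hc
      have hder : ∀ (i : Fin r), ∀ b ∈ I ^ 2, ε (D i b) = 0 := by
        intro i b hb
        rw [pow_two] at hb
        refine Submodule.mul_induction_on hb (fun u hu w hw => ?_) (fun u w hu hw => by simp [hu, hw])
        have hu' : ε u = 0 := hu
        have hw' : ε w = 0 := hw
        simp [hu', hw']
      funext j
      have := hder j _ hc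
      simpa [hD, apply_ite ε, mul_ite] using this
    · obtain ⟨⟨a, ha⟩, rfl⟩ := Ideal.toCotangent_surjective I q
      refine ⟨fun i => ε (D i a), ?_⟩
      rw [hψ, Ideal.toCotangent_eq]
      have := neg_mem (hexp a)
      have ha' : ε a = 0 := ha
      simpa [ha'] using this
  rw [← (LinearEquiv.ofBijective ψ hbij).finrank_eq, Module.finrank_fintype_fun_eq_card, Fintype.card_fin]

/-- The Frobenius kernel is a truncated polynomial algebra. -/
theorem nonempty_frobKer {Δ : A →ₐ[k] A ⊗[k] A} (h : IsComul ε Δ) [Module.Finite k A]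
    (hnil : ∀ a, ε a = 0 → IsNilpotent a) (p : ℕ) [Fact p.Prime] [CharP k p] (d : ℕ)
    (hd : Module.finrank k (RingHom.ker ε.toRingHom).Cotangent = d) :
    Nonempty ((A ⧸ Ideal.span ((fun a : A => a ^ p) '' (RingHom.ker ε.toRingHom : Set A))) ≃ₐ[k]
      (MvPolynomial (Fin d) k ⧸
        Ideal.span (Set.range fun i : Fin d => (MvPolynomial.X i : MvPolynomial (Fin d) k) ^ p))) := by
  classical
  obtain ⟨r, x, D, hxε, hgen, hD⟩ := exists_coords h hnil
  obtain rfl : r = d := (finrank_cotangent_eq ε x hxε D hgen hD).symm.trans hd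
  obtain ⟨b, hb⟩ := basis_mono_of_coords p _ rfl x D hgen hD
  have : Nontrivial A := ε.toRingHom.domain_nontrivial
  have : CharP A p := charP_of_injective_algebraMap (algebraMap k A).injective p
  have hp := (Fact.out : p.Prime)
  let B := Algebra.adjoin k (Set.range fun a : A => a ^ p)
  let J := Ideal.span ((fun a : A => a ^ p) '' (RingHom.ker ε.toRingHom : Set A))
  have hBJ : ∀ c ∈ B, c - algebraMap k A (ε c) ∈ J := by
    intro c hc
    induction hc using Algebra.adjoin_induction with
    | mem a ha =>
      obtain ⟨a, rfl⟩ := ha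
      refine Ideal.subset_span ⟨a - algebraMap k A (ε a), by simp, ?_⟩
      show (a - algebraMap k A (ε a)) ^ p = a ^ p - algebraMap k A (ε (a ^ p))
      rw [sub_pow_char, map_pow, map_pow]
    | algebraMap c => simp
    | add u w _ _ hu hw =>
      convert add_mem hu hw using 1
      simp only [map_add]; abel
    | mul u w _ _ hu hw =>
      convert add_mem (Ideal.mul_mem_right w _ hu) (Ideal.mul_mem_left _ (algebraMap k A (ε u)) hw) using 1
      simp only [map_mul]; ring
  let Q := A ⧸ J
  let y : Fin r → Q := fun i => Ideal.Quotient.mk J (x i)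
  have hm : ∀ e, mono y e = Ideal.Quotient.mk J (mono (p := p) x e) := fun e => by simp [mono, y, map_prod]
  have hJ : ∀ z ∈ J, ∀ e, ε (b.repr z e) = 0 := by
    intro z hz
    induction hz using Submodule.span_induction with
    | mem z hz =>
      obtain ⟨a, ha, rfl⟩ := hz
      have ha' : ε a = 0 := ha
      intro e
      have : a ^ p = (⟨a ^ p, Algebra.subset_adjoin ⟨a, rfl⟩⟩ : B) • (1 : A) := by
        simp [Subalgebra.smul_def]
      show ε (b.repr (a ^ p) e) = 0
      rw [this, map_smul, Finsupp.smul_apply, smul_eq_mul, Subalgebra.coe_mul, map_mul, map_pow, ha',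
        zero_pow hp.ne_zero, zero_mul]
    | zero => simp
    | add u w _ _ hu hw => intro e; simp [hu e, hw e]
    | smul c z _ hz =>
      intro e
      rw [smul_eq_mul, ← b.sum_repr z, Finset.mul_sum, map_sum, Finsupp.finsetSum_apply,
        AddSubmonoidClass.coe_finsetSum, map_sum]
      refine Finset.sum_eq_zero fun f _ => ?_
      rw [mul_smul_comm, map_smul, Finsupp.smul_apply, smul_eq_mul, Subalgebra.coe_mul, map_mul, hz f,
        zero_mul]
  have hli : LinearIndependent k (mono y (p := p)) := by
    rw [Fintype.linearIndependent_iff]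
    intro c hc e
    have hz : ∑ f, algebraMap k B (c f) • b f ∈ J := by
      rw [← Ideal.Quotient.eq_zero_iff_mem, ← hc, map_sum]
      refine Finset.sum_congr rfl fun f _ => ?_
      rw [algebraMap_smul, hb, hm, Algebra.smul_def, map_mul, Algebra.smul_def]
      rfl
    have := hJ _ hz e
    rw [b.repr_sum_self] at this
    simpa using this
  have hsp : ⊤ ≤ Submodule.span k (Set.range (mono y (p := p))) := by
    rintro q -
    obtain ⟨a, rfl⟩ := Ideal.Quotient.mk_surjective q
    rw [← b.sum_repr a, map_sum]
    refine Submodule.sum_mem _ fun e _ => ?_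
    rw [Subalgebra.smul_def, smul_eq_mul, map_mul, hb, ← hm,
      Ideal.Quotient.mk_eq_mk_iff_sub_mem _ _ |>.2 (hBJ _ (b.repr a e).2)]
    rw [Ideal.Quotient.mk_algebraMap, ← Algebra.smul_def]
    exact Submodule.smul_mem _ _ (Submodule.subset_span (Set.mem_range_self _))
  refine nonempty_truncated y hp.pos (fun i => ?_) (Module.Basis.mk hli hsp)
    fun e => Module.Basis.mk_apply _ _ e
  rw [← map_pow, Ideal.Quotient.eq_zero_iff_mem]
  exact Ideal.subset_span ⟨x i, hxε i, rfl⟩

end Field

section LocalBase

open IsLocalRing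

/-- A flat finitely presented height one group scheme over a local ring of characteristic `p` is
a truncated polynomial algebra. -/
theorem nonempty_truncated_of_height_one (p : ℕ) [Fact p.Prime] (R : Type u) [CommRing R]
    [IsLocalRing R] [CharP R p] (A : Type v) [CommRing A] [HopfAlgebra R A]
    [Algebra.FinitePresentation R A] [Module.Flat R A]
    (h1 : ∀ a : A, Bialgebra.counitAlgHom R A a = 0 → a ^ p = 0) :
    ∃ n : ℕ, Nonempty (A ≃ₐ[R] (MvPolynomial (Fin n) R ⧸
      Ideal.span (Set.range fun i : Fin n => (MvPolynomial.X i : MvPolynomial (Fin n) R) ^ p))) := by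
  classical
  have hp := (Fact.out : p.Prime)
  let ε := Bialgebra.counitAlgHom R A
  have hz : ∀ a, (a - algebraMap R A (ε a)) ^ p = 0 := fun a => h1 _ (by simp [ε])
  have : Algebra.IsIntegral R A := ⟨fun a => by
    have h2 : IsIntegral R ((a - algebraMap R A (ε a)) ^ p) := (hz a).symm ▸ isIntegral_zero
    have h3 := (IsIntegral.of_pow hp.pos h2).add (isIntegral_algebraMap (x := ε a))
    rwa [sub_add_cancel] at h3⟩
  have : Module.Finite R A := Algebra.IsIntegral.finite
  have : Module.Free R A := Module.free_of_flat_of_isLocalRing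
  have : Module.FinitePresentation R A := Module.finitePresentation_of_projective R A
  let k := ResidueField R
  let Ā := k ⊗[R] A
  have hsurj : Function.Surjective fun a : A => ((1 : k) ⊗ₜ[R] a : Ā) :=
    TensorProduct.mk_surjective R A k residue_surjective
  let ε' := Bialgebra.counitAlgHom k Ā
  have hε : ∀ a, ε' (1 ⊗ₜ[R] a) = residue R (ε a) := fun a => by
    show Coalgebra.counit (R := k) ((1 : k) ⊗ₜ[R] a) = _
    rw [TensorProduct.counit_tmul, CommSemiring.counit_apply, Algebra.smul_def, mul_one]
    rfl
  have hpow : ∀ z : Ā, (z - algebraMap k Ā (ε' z)) ^ p = 0 := by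
    intro z
    obtain ⟨a, rfl⟩ := hsurj z
    have e : (1 : k) ⊗ₜ[R] a - algebraMap k Ā (ε' (1 ⊗ₜ[R] a)) =
        (1 : k) ⊗ₜ[R] (a - algebraMap R A (ε a)) := by
      rw [TensorProduct.tmul_sub, hε]
      congr 1
      exact (IsScalarTower.algebraMap_apply R k Ā (ε a)).symm.trans
        (Algebra.TensorProduct.includeRight.commutes (ε a)).symm
    show ((1 : k) ⊗ₜ[R] a - algebraMap k Ā (ε' (1 ⊗ₜ[R] a))) ^ p = 0
    rw [e, Algebra.TensorProduct.tmul_pow, hz, TensorProduct.tmul_zero]
  have : CharP k p := by
    obtain ⟨q, hq⟩ := CharP.exists k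
    have h0 : (p : k) = 0 := by rw [← map_natCast (residue R), CharP.cast_eq_zero, map_zero]
    have hdvd := (CharP.cast_eq_zero_iff k q p).1 h0
    rcases (Nat.dvd_prime hp).1 hdvd with rfl | rfl
    · exact (CharP.char_ne_one k 1 rfl).elim
    · exact hq
  have hnil : ∀ z : Ā, ε' z = 0 → IsNilpotent z := fun z hz' => ⟨p, by simpa [hz'] using hpow z⟩
  obtain ⟨r, xb, D, hxε, hgen, hD⟩ := exists_coords (isComul_comul k Ā) hnil
  obtain ⟨bB, hbB⟩ := basis_mono_of_coords p _ rfl xb D hgen hD
  have hB : Algebra.adjoin k (Set.range fun z : Ā => z ^ p) = ⊥ := by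
    rw [eq_bot_iff, Algebra.adjoin_le_iff]
    rintro _ ⟨z, rfl⟩
    have : Nontrivial Ā := ε'.toRingHom.domain_nontrivial
    have : CharP Ā p := charP_of_injective_algebraMap (algebraMap k Ā).injective p
    have h := hpow z
    rw [sub_pow_char, sub_eq_zero, ← map_pow] at h
    exact ⟨_, h.symm⟩
  choose x' hx' using fun i => hsurj (xb i)
  let x : Fin r → A := fun i => x' i - algebraMap R A (ε (x' i))
  have hx : ∀ i, (1 : k) ⊗ₜ[R] x i = xb i := by
    intro i
    have h0 : residue R (ε (x' i)) = 0 := by rw [← hε]; rw [show (1 : k) ⊗ₜ[R] x' i = xb i from hx' i]; exact hxε i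
    show (1 : k) ⊗ₜ[R] (x' i - algebraMap R A (ε (x' i))) = xb i
    rw [TensorProduct.tmul_sub, show (1 : k) ⊗ₜ[R] x' i = xb i from hx' i,
      Algebra.algebraMap_eq_smul_one, ← TensorProduct.smul_tmul, Algebra.smul_def, mul_one]
    show xb i - residue R (ε (x' i)) ⊗ₜ[R] (1 : A) = xb i
    rw [h0, TensorProduct.zero_tmul, sub_zero]
  have hmono : ∀ e, TensorProduct.mk R k A 1 (mono (p := p) x e) = mono xb e := by
    intro e
    show Algebra.TensorProduct.includeRight (R := R) (A := k) (mono x e) = _
    simp only [mono, map_prod, map_pow, Algebra.TensorProduct.includeRight_apply, hx]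
  have hli : LinearIndependent k (TensorProduct.mk R k A 1 ∘ mono (p := p) x) := by
    rw [show (TensorProduct.mk R k A 1 ∘ mono (p := p) x) = ⇑bB from funext fun e => (hmono e).trans (hbB e).symm]
    have : Nontrivial Ā := ε'.toRingHom.domain_nontrivial
    refine bB.linearIndependent.restrict_scalars fun c c' h => (algebraMap k Ā).injective ?_
    have := congrArg Subtype.val h
    simpa [Algebra.algebraMap_eq_smul_one] using this
  have hsp : Submodule.span k (Set.range (TensorProduct.mk R k A 1 ∘ mono (p := p) x)) = ⊤ := by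
    rw [show (TensorProduct.mk R k A 1 ∘ mono (p := p) x) = ⇑bB from funext fun e => (hmono e).trans (hbB e).symm,
      eq_top_iff]
    rintro z -
    rw [← bB.sum_repr z]
    refine Submodule.sum_mem _ fun e _ => ?_
    obtain ⟨c, hc⟩ := Algebra.mem_bot.1 (hB.le (bB.repr z e).2)
    rw [Subalgebra.smul_def, ← hc, algebraMap_smul]
    exact Submodule.smul_mem _ _ (Submodule.subset_span (Set.mem_range_self _))
  obtain ⟨b, hb⟩ := Module.exists_basis_of_basis_baseChange (mono (p := p) x) hli hsp
    (Module.Flat.rTensor_preserves_injective_linearMap _ Subtype.val_injective)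
  exact ⟨r, nonempty_truncated x hp.pos (fun i => hz _) b hb⟩

end LocalBase

end Groth.Agent.FinHopf
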