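import Groth.Agent.FinHopf.Power
import Mathlib.RingTheory.Spectrum.Prime.FreeLocus
import Mathlib.FieldTheory.IsAlgClosed.AlgebraicClosure
import Mathlib.RingTheory.LocalRing.ResidueField.Ideal
import Mathlib.LinearAlgebra.Dimension.Constructions

/-!
# The order of a finite locally free group scheme over a reduced base kills it
-/

universe u v w

open scoped TensorProduct
open WithConv

namespace Groth.Agent.FinHopf

variable {R : Type u} [CommRing R] {A : Type v} [CommRing A] [HopfAlgebra R A]

/-- Restriction of points of the base change to points of `A`. -/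
noncomputable def restrictPts (K : Type w) [CommRing K] [Algebra R K]
    (B : Type*) [CommRing B] [Algebra R B] [Algebra K B] [IsScalarTower R K B] :
    WithConv (K ⊗[R] A →ₐ[K] B) →* WithConv (A →ₐ[R] B) where
  toFun f := toConv ((f.ofConv.restrictScalars R).comp Algebra.TensorProduct.includeRight)
  map_one' := by
    apply WithConv.ofConv_injective
    ext a
    show (1 : WithConv (K ⊗[R] A →ₐ[K] B)) (1 ⊗ₜ[R] a) = (1 : WithConv (A →ₐ[R] B)) a
    rw [AlgHom.convOne_apply, AlgHom.convOne_apply, TensorProduct.counit_tmul, CommSemiring.counit_apply,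
      Algebra.smul_def, mul_one, ← IsScalarTower.algebraMap_apply]
  map_mul' f g := by
    apply WithConv.ofConv_injective
    ext a
    show (f * g) (1 ⊗ₜ[R] a) =
      (toConv ((f.ofConv.restrictScalars R).comp Algebra.TensorProduct.includeRight) *
        toConv ((g.ofConv.restrictScalars R).comp Algebra.TensorProduct.includeRight)) a
    rw [AlgHom.convMul_apply, AlgHom.convMul_apply, TensorProduct.comul_tmul,
      CommSemiring.comul_apply]
    induction CoalgebraStruct.comul (R := R) a using TensorProduct.induction_on with
    | zero => simp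
    | add u z hu hz => simp only [TensorProduct.tmul_add, map_add, hu, hz]
    | tmul x y => simp

theorem one_tmul_convPow_id (K : Type w) [Field K] [IsAlgClosed K] [Algebra R K]
    [Module.Finite R A] (a : A) (n : ℕ) (hn : Module.finrank K (K ⊗[R] A) = n) :
    (1 : K) ⊗ₜ[R] ((toConv (AlgHom.id R A) ^ n) a) =
      (1 : K) ⊗ₜ[R] (algebraMap R A (Coalgebra.counit (R := R) a)) := by
  have h := congrArg (restrictPts (A := A) K (K ⊗[R] A)) (convPow_id_eq_one (k := K) (A := K ⊗[R] A))
  rw [hn, map_pow, map_one] at h
  have h2 : restrictPts (A := A) K (K ⊗[R] A) (toConv (AlgHom.id K (K ⊗[R] A))) =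
      postComp (C := A) Algebra.TensorProduct.includeRight (toConv (AlgHom.id R A)) := by
    apply WithConv.ofConv_injective
    ext a
    rfl
  rw [h2, ← map_pow] at h
  have h3 := DFunLike.congr_fun (congrArg WithConv.ofConv h) a
  rw [postComp_apply] at h3
  refine h3.trans ?_
  show (1 : WithConv (A →ₐ[R] K ⊗[R] A)) a = _
  rw [AlgHom.convOne_apply]
  exact (Algebra.TensorProduct.includeRight.commutes _).symm

theorem finrank_baseChange_eq_rankAtStalk [Module.Finite R A] [Module.Projective R A]
    (p : PrimeSpectrum R) (K : Type w) [Field K] [Algebra R K]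
    (hK : RingHom.ker (algebraMap R K) = p.asIdeal) :
    Module.finrank K (K ⊗[R] A) = Module.rankAtStalk (R := R) A p := by
  have h := Module.rankAtStalk_baseChange (R := R) (M := A) (S := K) ⊥
  rw [Module.rankAtStalk_eq_finrank_of_free] at h
  simp only [Pi.natCast_apply, Nat.cast_id] at h
  rw [h]
  congr 1
  exact PrimeSpectrum.ext hK

/-- Over a reduced base, a finite projective Hopf algebra of constant rank `n` has `id ^ n = 1`. -/
theorem convPow_id_eq_one_of_isReduced [IsReduced R] [Module.Finite R A] [Module.Projective R A]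
    (n : ℕ) (hn : ∀ p : PrimeSpectrum R, Module.rankAtStalk (R := R) A p = n) :
    toConv (AlgHom.id R A) ^ n = 1 := by
  apply WithConv.ofConv_injective
  ext a
  set z : A := (toConv (AlgHom.id R A) ^ n) a - algebraMap R A (Coalgebra.counit (R := R) a) with hz
  suffices z = 0 by
    rw [hz, sub_eq_zero] at this
    exact this.trans (AlgHom.convOne_apply a).symm
  refine (Module.forall_dual_apply_eq_zero_iff R z).1 fun φ => ?_
  by_contra hne
  obtain ⟨q, hq, hqz⟩ : ∃ q : Ideal R, q.IsPrime ∧ φ z ∉ q := by
    by_contra! hall
    exact hne (IsReduced.eq_zero _ ((mem_nilradical).1 (by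
      rw [nilradical_eq_sInf, Submodule.mem_sInf]; exact fun q hq => hall q hq)))
  let K := AlgebraicClosure q.ResidueField
  have hker : RingHom.ker (algebraMap R K) = q := by
    rw [IsScalarTower.algebraMap_eq R q.ResidueField K, RingHom.ker_comp_of_injective _ (RingHom.injective _),
      Ideal.ker_algebraMap_residueField]
  have h1 := one_tmul_convPow_id (R := R) K a n
    ((finrank_baseChange_eq_rankAtStalk ⟨q, hq⟩ K hker).trans (hn _))
  have h2 : (1 : K) ⊗ₜ[R] z = 0 := by rw [hz, TensorProduct.tmul_sub, h1, sub_self]
  have h3 := congrArg ((TensorProduct.rid R K).toLinearMap ∘ₗ LinearMap.lTensor K φ) h2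
  simp [Algebra.smul_def] at h3
  exact hqz (hker ▸ h3)

end Groth.Agent.FinHopf
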