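import Groth.Agent.FinHopf.BaseChange
import Mathlib.AlgebraicGeometry.Group.Affine
import Mathlib.AlgebraicGeometry.Morphisms.FlatRank
import Mathlib.AlgebraicGeometry.Morphisms.FinitePresentation
import Mathlib.CategoryTheory.Monoidal.Cartesian.Over
import Mathlib.RingTheory.Finiteness.Projective
import Mathlib.RingTheory.FinitePresentation

/-!
# A finite locally free group scheme over a reduced base is killed by its rank
-/

universe u

open CategoryTheory AlgebraicGeometry Limits MonObj WithConv MonoidalCategory CartesianMonoidalCategory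

namespace Groth.Agent.FinHopf

theorem pow_eq_one_of_affine (R : CommRingCat.{u}) [IsReduced R] (G : Over (Spec R)) [GrpObj G]
    [IsFinite G.hom] [Flat G.hom] [LocallyOfFinitePresentation G.hom] (n : ℕ)
    (hn : ∀ y, G.hom.finrank y = n) : (𝟙 G : G ⟶ G) ^ n = 1 := by
  have : IsAffine G.left := isAffine_of_isAffineHom G.hom
  obtain ⟨⟨H⟩, ⟨e⟩⟩ := (essImage_hopfSpec (G := Grp.mk G)).2 this
  let X : Over (Spec R) := (Spec (CommRingCat.of H)).asOver (Spec R)
  let f : X ⟶ G := e.hom.hom.hom
  let g : G ⟶ X := e.inv.hom.hom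
  have hgf : g ≫ f = 𝟙 G := congrArg (fun z => z.hom.hom) e.inv_hom_id
  have hfg : f ≫ g = 𝟙 X := congrArg (fun z => z.hom.hom) e.hom_inv_id
  have : IsMonHom f := e.hom.hom.isMonHom_hom
  have : IsIso g.left := ⟨f.left, congrArg CommaMorphism.left hgf, congrArg CommaMorphism.left hfg⟩
  let q : Spec (CommRingCat.of H) ⟶ G.left := f.left
  have : IsIso q := ⟨g.left, congrArg CommaMorphism.left hfg, congrArg CommaMorphism.left hgf⟩
  have hw : Spec.map (CommRingCat.ofHom (algebraMap R H)) = q ≫ G.hom := (Over.w f).symm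
  have h1 : IsFinite (Spec.map (CommRingCat.ofHom (algebraMap R H))) := hw ▸ inferInstance
  have h2 : Flat (Spec.map (CommRingCat.ofHom (algebraMap R H))) := hw ▸ inferInstance
  have h3 : LocallyOfFinitePresentation (Spec.map (CommRingCat.ofHom (algebraMap R H))) :=
    hw ▸ inferInstance
  have : Module.Finite R H := RingHom.finite_algebraMap.1 ((IsFinite.SpecMap_iff _).1 h1)
  have : Module.Flat R H := RingHom.flat_algebraMap_iff.1 (Flat.SpecMap_iff.1 h2)
  have : Algebra.FinitePresentation R H := RingHom.finitePresentation_algebraMap.1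
    ((HasRingHomProperty.Spec_iff (P := @LocallyOfFinitePresentation)).1 h3)
  have : Module.FinitePresentation R H := Module.FinitePresentation.of_finite_of_finitePresentation R H
  have : Module.Projective R H := Module.Flat.projective_of_finitePresentation
  have hH := convPow_id_eq_one_of_isReduced (R := R) (A := H) n fun p => by
    rw [← hn p, ← Scheme.Hom.finrank_SpecMap_algebraMap]
    exact congr_fun ((congrArg Scheme.Hom.finrank hw).trans (Scheme.Hom.finrank_comp_left_of_isIso q G.hom)) p
  have hX : (𝟙 X : X ⟶ X) ^ n = 1 := by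
    have e1 : (Spec.mapMulEquiv (R := R) (S := H) (T := H)) (toConv (AlgHom.id R H)) = 𝟙 X := by
      apply Over.OverMorphism.ext
      show Spec.map (CommRingCat.ofHom (RingHom.id H)) = 𝟙 _
      simp
    have := congrArg (Spec.mapMulEquiv (R := R) (S := H) (T := H)) hH
    rw [map_pow, map_one, e1] at this
    exact this
  have hf : f ^ n = 1 := by
    have := congrArg (IsMonHom.monoidHom f X) hX
    rw [map_pow, map_one] at this
    simpa using this
  calc (𝟙 G : G ⟶ G) ^ n = (g ≫ f) ^ n := by rw [hgf]
    _ = g ≫ f ^ n := (MonObj.comp_pow _ _ _).symm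
    _ = 1 := by rw [hf, MonObj.comp_one]

theorem pow_rank_eq_one {S : Scheme.{u}} [IsReduced S] (G : Over S) [GrpObj G]
    [IsFinite G.hom] [Flat G.hom] [LocallyOfFinitePresentation G.hom] (n : ℕ)
    (hn : ∀ y, G.hom.finrank y = n) : (𝟙 G : G ⟶ G) ^ n = 1 := by
  apply Over.OverMorphism.ext
  let 𝒰 := S.affineOpenCover
  refine Scheme.Cover.hom_ext (𝒰.openCover.pullback₁ G.hom) _ _ fun (i : 𝒰.I₀) => ?_
  let g : Spec (𝒰.X i) ⟶ S := 𝒰.f i
  have : AlgebraicGeometry.IsReduced (Spec (𝒰.X i)) := isReduced_of_isOpenImmersion g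
  have : _root_.IsReduced (𝒰.X i) := (affine_isReduced_iff _).1 inferInstance
  let F := Over.pullback g
  let : GrpObj (F.obj G) := Functor.grpObjObj
  have : IsFinite (F.obj G).hom := MorphismProperty.pullback_snd (P := @IsFinite) _ _ inferInstance
  have : Flat (F.obj G).hom := MorphismProperty.pullback_snd (P := @Flat) _ _ inferInstance
  have : LocallyOfFinitePresentation (F.obj G).hom :=
    MorphismProperty.pullback_snd (P := @LocallyOfFinitePresentation) _ _ inferInstance
  have h := pow_eq_one_of_affine _ (F.obj G) n fun y =>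
    (Scheme.Hom.finrank_pullback_snd G.hom g y).trans (hn _)
  have h2 : F.map ((𝟙 G : G ⟶ G) ^ n) = F.map 1 := by
    have := map_pow (Functor.homMonoidHom F (X := G) (M := G)) (𝟙 G) n
    simp only [Functor.homMonoidHom_apply, CategoryTheory.Functor.map_id] at this
    rw [this]
    exact h.trans (Functor.map_one F).symm
  have h3 := congrArg (fun z => z.left ≫ pullback.fst G.hom g) h2
  have key : ∀ z : G ⟶ G, (F.map z).left ≫ pullback.fst G.hom g = pullback.fst G.hom g ≫ z.left :=
    fun z => pullback.lift_fst _ _ _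
  simp only [key] at h3
  exact h3

end Groth.Agent.FinHopf
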