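import Groth.Agent.FinHopf.Monomials
import Mathlib.RingTheory.Coalgebra.Basic
import Mathlib.RingTheory.Bialgebra.Basic
import Mathlib.RingTheory.TensorProduct.Maps
import Mathlib.RingTheory.Nilpotent.Basic
import Mathlib.RingTheory.Nilpotent.Lemmas
import Mathlib.RingTheory.Noetherian.Nilpotent
import Mathlib.RingTheory.FiniteType
import Mathlib.RingTheory.Noetherian.Basic
import Mathlib.RingTheory.Flat.Basic
import Mathlib.LinearAlgebra.Dimension.Free
import Mathlib.LinearAlgebra.FreeModule.StrongRankCondition
import Mathlib.LinearAlgebra.Dimension.FreeAndStrongRankCondition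
import Mathlib.LinearAlgebra.FiniteDimensional.Basic
import Mathlib.Algebra.CharP.Defs
import Mathlib.Algebra.CharP.Lemmas
import Mathlib.Algebra.CharP.Algebra
import Mathlib.RingTheory.MvPolynomial.Basic

/-!
# Finite local algebras with a comultiplication

For a finite algebra `A` over a field `k` with augmentation `ε` whose kernel is nilpotent and a
comultiplication `Δ` satisfying the counit laws: `A` is free over `k[A ^ p]` with basis truncated
monomials, so `dim A` is a power of the exponential characteristic.
-/

universe u v w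

open scoped TensorProduct

namespace Groth.Agent.FinHopf

section Span

variable {C : Type u} [CommRing C] {A : Type v} [CommRing A] [Algebra C A] {r : ℕ}

/-- The truncated monomial with exponent `e`. -/
def mono (x : Fin r → A) {p : ℕ} (e : Fin r → Fin p) : A := ∏ i, x i ^ (e i : ℕ)

theorem adjoin_le_span_mono (x : Fin r → A) {p : ℕ} (hp : 0 < p)
    (hx : ∀ i, x i ^ p ∈ (⊥ : Subalgebra C A)) :
    (Algebra.adjoin C (Set.range x)).toSubmodule ≤
      Submodule.span C (Set.range (mono x (p := p))) := by
  intro a ha
  rw [Subalgebra.mem_toSubmodule, Algebra.adjoin_range_eq_range_aeval] at ha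
  obtain ⟨P, rfl⟩ := ha
  change MvPolynomial.aeval x P ∈ _
  induction P using MvPolynomial.induction_on' with
  | add P Q hP hQ => rw [map_add]; exact add_mem hP hQ
  | monomial d c =>
    have h1 : (∏ i, (x i ^ p) ^ (d i / p)) ∈ (⊥ : Subalgebra C A) :=
      prod_mem fun i _ => pow_mem (hx i) _
    obtain ⟨c', hc'⟩ := Algebra.mem_bot.1 h1
    have h2 : MvPolynomial.aeval x (MvPolynomial.monomial d c) =
        (c * c') • mono x (fun i => (⟨d i % p, Nat.mod_lt _ hp⟩ : Fin p)) := by
      rw [MvPolynomial.aeval_monomial, Finsupp.prod_fintype _ _ (fun i => pow_zero _),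
        Algebra.smul_def, map_mul, hc', mono, _root_.mul_assoc, ← Finset.prod_mul_distrib]
      simp_rw [← pow_mul, ← pow_add, Nat.div_add_mod]
    rw [h2]
    exact Submodule.smul_mem _ _ (Submodule.subset_span (Set.mem_range_self _))

/-- If the truncated monomials form a basis and the `p`-th powers vanish, `A` is a truncated
polynomial algebra. -/
theorem nonempty_truncated (x : Fin r → A) {p : ℕ} (hp : 0 < p) (hx : ∀ i, x i ^ p = 0)
    (b : Module.Basis (Fin r → Fin p) C A) (hb : ∀ e, b e = mono x e) :
    Nonempty (A ≃ₐ[C] (MvPolynomial (Fin r) C ⧸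
      Ideal.span (Set.range fun i : Fin r => (MvPolynomial.X i : MvPolynomial (Fin r) C) ^ p))) := by
  let J := Ideal.span (Set.range fun i : Fin r => (MvPolynomial.X i : MvPolynomial (Fin r) C) ^ p)
  let φ : (MvPolynomial (Fin r) C ⧸ J) →ₐ[C] A := Ideal.Quotient.liftₐ J (MvPolynomial.aeval x) (by
    intro z hz
    refine (Ideal.span_le (I := RingHom.ker (MvPolynomial.aeval x))).2 ?_ hz
    rintro _ ⟨i, rfl⟩
    simp [hx])
  let X' : Fin r → MvPolynomial (Fin r) C ⧸ J := fun i => Ideal.Quotient.mk J (MvPolynomial.X i)
  have hφX : ∀ i, φ (X' i) = x i := fun i => by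
    show MvPolynomial.aeval x (MvPolynomial.X i) = x i
    simp
  have hgen : Algebra.adjoin C (Set.range X') = ⊤ := by
    have e : (fun i => (Ideal.Quotient.mkₐ C J) (MvPolynomial.X i)) = X' := rfl
    rw [← e, ← Function.comp_def, Set.range_comp, ← AlgHom.map_adjoin, MvPolynomial.adjoin_range_X,
      Algebra.map_top, AlgHom.range_eq_top]
    exact Ideal.Quotient.mkₐ_surjective C J
  have hspan : Submodule.span C (Set.range (mono X' (p := p))) = ⊤ := by
    rw [eq_top_iff, ← Algebra.top_toSubmodule, ← hgen]
    refine adjoin_le_span_mono X' hp fun i => ?_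
    have : X' i ^ p = 0 := by
      rw [← map_pow, Ideal.Quotient.eq_zero_iff_mem]
      exact Ideal.subset_span ⟨i, rfl⟩
    rw [this]; exact zero_mem _
  have hφm : ∀ e, φ (mono X' e) = b e := fun e => by simp [mono, map_prod, hφX, hb]
  refine ⟨(AlgEquiv.ofBijective φ ⟨(injective_iff_map_eq_zero φ).2 fun z hz => ?_, ?_⟩).symm⟩
  · obtain ⟨c, rfl⟩ := (Submodule.mem_span_range_iff_exists_fun C).1 (hspan ▸ Submodule.mem_top : z ∈ _)
    rw [map_sum] at hz
    simp only [map_smul, hφm] at hz
    rw [Finset.sum_congr rfl fun e _ => by rw [Fintype.linearIndependent_iff.1 b.linearIndependent c hz e, zero_smul]]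
    simp
  · intro a
    refine ⟨∑ e, b.repr a e • mono X' e, ?_⟩
    simp [hφm, b.sum_repr]

end Span

variable {k : Type u} [Field k] {A : Type v} [CommRing A] [Algebra k A]

/-- The counit laws for a comultiplication. -/
structure IsComul (ε : A →ₐ[k] k) (Δ : A →ₐ[k] A ⊗[k] A) : Prop where
  left : ∀ a, TensorProduct.lid k A (LinearMap.rTensor A ε.toLinearMap (Δ a)) = a
  right : ∀ a, TensorProduct.rid k A (LinearMap.lTensor A ε.toLinearMap (Δ a)) = a

variable {ε : A →ₐ[k] k} {Δ : A →ₐ[k] A ⊗[k] A}

/-- The invariant derivation attached to a tangent vector at the augmentation. -/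
theorem exists_derivation (h : IsComul ε Δ) (f : A →ₗ[k] k)
    (hf : ∀ a b, f (a * b) = ε a * f b + ε b * f a) :
    ∃ D : Derivation k A A, ∀ a, ε (D a) = f a := by
  let E : A ⊗[k] A →ₗ[k] A := (TensorProduct.rid k A).toLinearMap ∘ₗ LinearMap.lTensor A ε.toLinearMap
  let F : A ⊗[k] A →ₗ[k] A := (TensorProduct.rid k A).toLinearMap ∘ₗ LinearMap.lTensor A f
  have hF : ∀ u v, F (u * v) = E u * F v + E v * F u := by
    intro u v
    induction u using TensorProduct.induction_on with
    | zero => simp
    | add u u' hu hu' => simp only [add_mul, map_add, hu, hu']; ring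
    | tmul a a' =>
      induction v using TensorProduct.induction_on with
      | zero => simp
      | add v v' hv hv' => simp only [mul_add, map_add, hv, hv']; ring
      | tmul c c' =>
        simp only [E, F, Algebra.TensorProduct.tmul_mul_tmul, LinearMap.comp_apply,
          LinearMap.lTensor_tmul, LinearEquiv.coe_coe, TensorProduct.rid_tmul, hf, add_smul,
          AlgHom.toLinearMap_apply, Algebra.smul_def, map_mul, map_add]
        ring
  have hE : ∀ a, E (Δ a) = a := h.right
  have hr : ∀ w, ε (F w) = f (TensorProduct.lid k A (LinearMap.rTensor A ε.toLinearMap w)) := by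
    intro w
    induction w using TensorProduct.induction_on with
    | zero => simp
    | add w w' hw hw' => simp [hw, hw']
    | tmul a b => simp [F, mul_comm]
  refine ⟨Derivation.mk' (F ∘ₗ Δ.toLinearMap) fun a b => ?_, fun a => ?_⟩
  · simp [hF, hE]
  · show ε (F (Δ a)) = f a
    rw [hr, h.left]

/-- Lifts of a basis of the cotangent space with invariant derivations dual to them. -/
theorem exists_coords (h : IsComul ε Δ) [Module.Finite k A] (hnil : ∀ a, ε a = 0 → IsNilpotent a) :
    ∃ (r : ℕ) (x : Fin r → A) (D : Fin r → Derivation k A A), (∀ i, ε (x i) = 0) ∧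
      Algebra.adjoin k (Set.range x) = ⊤ ∧
      (∀ i j, D i (x j) = if i = j then 1 else 0) := by
  classical
  let m : Ideal A := RingHom.ker ε
  let W : Submodule k A := (m ^ 2).restrictScalars k ⊔ k ∙ (1 : A)
  let b := Module.finBasis k (A ⧸ W)
  choose y hy using fun i => W.mkQ_surjective (b i)
  let x : Fin (Module.finrank k (A ⧸ W)) → A := fun i => y i - algebraMap k A (ε (y i))
  have hone : ∀ c : k, W.mkQ (algebraMap k A c) = 0 := fun c => by
    rw [Submodule.mkQ_apply, Submodule.Quotient.mk_eq_zero, Algebra.algebraMap_eq_smul_one]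
    exact Submodule.mem_sup_right (Submodule.smul_mem _ _ (Submodule.mem_span_singleton_self _))
  have hxε : ∀ i, ε (x i) = 0 := fun i => by simp [x]
  have hxq : ∀ i, W.mkQ (x i) = b i := fun i => by rw [map_sub, hone, sub_zero, hy]
  have hq : ∀ a c, W.mkQ (a * c) = ε a • W.mkQ c + ε c • W.mkQ a := by
    intro a c
    have hmem : (a - algebraMap k A (ε a)) * (c - algebraMap k A (ε c)) ∈ W := by
      refine Submodule.mem_sup_left ?_
      rw [Submodule.restrictScalars_mem, pow_two]
      exact Ideal.mul_mem_mul (by simp [m]) (by simp [m])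
    have e : a * c = (a - algebraMap k A (ε a)) * (c - algebraMap k A (ε c)) + ε a • c + ε c • a
        - algebraMap k A (ε a * ε c) := by
      simp only [Algebra.smul_def, map_mul]; ring
    rw [e, map_sub, map_add, map_add, hone, map_smul, map_smul,
      (Submodule.Quotient.mk_eq_zero W).2 hmem |> fun z => show W.mkQ _ = 0 from z]
    abel
  choose D hD using fun i => exists_derivation h (b.coord i ∘ₗ W.mkQ) (fun a c => by
    simp only [LinearMap.comp_apply, hq, map_add, map_smul, smul_eq_mul])
  have hdet : IsUnit (Matrix.of fun i j => D i (x j)).det := by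
    have h1 : ε (Matrix.of fun i j => D i (x j)).det = 1 := by
      rw [AlgHom.map_det]
      have e1 : ε.mapMatrix (Matrix.of fun i j => D i (x j)) = 1 := by
        ext i j
        simp [hD, LinearMap.comp_apply, hxq, Matrix.one_apply, Finsupp.single_apply, eq_comm]
      rw [e1, Matrix.det_one]
    have := IsNilpotent.isUnit_one_add (hnil ((Matrix.of fun i j => D i (x j)).det - 1) (by rw [map_sub, h1, map_one, sub_self]))
    rwa [add_sub_cancel] at this
  obtain ⟨D', hD', -⟩ := exists_dual_derivations x D hdet
  refine ⟨_, x, D', hxε, ?_, hD'⟩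
  have : IsNoetherianRing A := isNoetherian_of_tower k inferInstance
  obtain ⟨N, hN⟩ : IsNilpotent m := (Ideal.FG.isNilpotent_iff_le_nilradical (IsNoetherian.noetherian m)).2
    fun a ha => mem_nilradical.2 (hnil a ha)
  let J := Ideal.span (Set.range x)
  have hm : m ≤ J ⊔ m ^ 2 := by
    intro a ha
    have e : W.mkQ (a - ∑ i, b.coord i (W.mkQ a) • x i) = 0 := by
      simp [map_sub, hxq, b.sum_repr]
    rw [Submodule.mkQ_apply, Submodule.Quotient.mk_eq_zero, Submodule.mem_sup] at e
    obtain ⟨w, hw, z, hz, e⟩ := e
    obtain ⟨c, rfl⟩ := Submodule.mem_span_singleton.1 hz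
    have hz0 : c = 0 := by
      have h2 : ε w = 0 := Ideal.pow_le_self two_ne_zero hw
      have := congrArg ε e
      simpa [h2, RingHom.mem_ker.1 ha, hxε] using this
    subst hz0
    have : a = (∑ i, b.coord i (W.mkQ a) • x i) + w := by
      have e' : w = a - ∑ i, b.coord i (W.mkQ a) • x i := by simpa using e
      rw [e']; abel
    rw [this]
    refine add_mem (Submodule.mem_sup_left (J.sum_mem fun i _ => ?_)) (Submodule.mem_sup_right hw)
    exact Submodule.smul_of_tower_mem J _ (Ideal.subset_span (Set.mem_range_self i))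
  have hm' : m ≤ J := by
    have hs : ∀ s, m ≤ J ⊔ m ^ (s + 1) := by
      intro s
      induction s with
      | zero => simp
      | succ s ih =>
        refine hm.trans (sup_le le_sup_left ?_)
        calc m ^ 2 = m * m := pow_two m
          _ ≤ m * (J ⊔ m ^ (s + 1)) := Ideal.mul_mono_right ih
          _ = m * J ⊔ m ^ (s + 1 + 1) := by rw [Ideal.mul_sup, pow_succ' m (s + 1)]
          _ ≤ _ := sup_le_sup_right Ideal.mul_le_right _
    exact (hs N).trans (sup_le le_rfl ((Ideal.pow_le_pow_right N.le_succ).trans (hN.trans_le bot_le)))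
  let S := Algebra.adjoin k (Set.range x)
  have hP : ∀ s a, ∃ z ∈ S, a - z ∈ m ^ s := by
    intro s
    induction s with
    | zero => exact fun a => ⟨0, zero_mem _, by simp⟩
    | succ s ih =>
      intro a
      obtain ⟨c, hc⟩ := (Submodule.mem_span_range_iff_exists_fun A).1
        (hm' (show a - algebraMap k A (ε a) ∈ m by simp [m]))
      choose z hz hcz using fun i => ih (c i)
      refine ⟨algebraMap k A (ε a) + ∑ i, z i * x i, add_mem (S.algebraMap_mem _)
        (sum_mem fun i _ => mul_mem (hz i) (Algebra.subset_adjoin (Set.mem_range_self i))), ?_⟩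
      rw [← sub_sub, ← hc, ← Finset.sum_sub_distrib, pow_succ]
      refine Submodule.sum_mem _ fun i _ => ?_
      rw [smul_eq_mul, ← sub_mul]
      exact Ideal.mul_mem_mul (hcz i) (hxε i)
  refine eq_top_iff.2 fun a _ => ?_
  obtain ⟨z, hz, hza⟩ := hP N a
  rw [hN, Ideal.zero_eq_bot, Ideal.mem_bot, sub_eq_zero] at hza
  exact hza ▸ hz

/-- In characteristic `p`, truncated monomials in coordinates form a basis over `k[A ^ p]`. -/
theorem basis_mono_of_coords (p : ℕ) [Fact p.Prime] [CharP k p] (B : Subalgebra k A)
    (hB : B = Algebra.adjoin k (Set.range fun a : A => a ^ p)) {r : ℕ} (x : Fin r → A)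
    (D : Fin r → Derivation k A A) (hgen : Algebra.adjoin k (Set.range x) = ⊤)
    (hD : ∀ i j, D i (x j) = if i = j then 1 else 0) :
    ∃ b : Module.Basis (Fin r → Fin p) B A, ∀ e, b e = mono x e := by
  classical
  have hp : 0 < p := (Fact.out : p.Prime).pos
  have hpA : (p : A) = 0 := by rw [← map_natCast (algebraMap k A), CharP.cast_eq_zero, map_zero]
  have hker : ∀ (i) (b : B), D i b = 0 := by
    rintro i ⟨b, hbB⟩
    show D i b = 0
    have hb : b ∈ Algebra.adjoin k (Set.range fun a : A => a ^ p) := hB ▸ hbB
    clear hbB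
    induction hb using Algebra.adjoin_induction with
    | mem a ha => obtain ⟨a, rfl⟩ := ha; simp [Derivation.leibniz_pow, hpA]
    | algebraMap c => simp
    | add a c _ _ ha hc => simp [ha, hc]
    | mul a c _ _ ha hc => simp [ha, hc]
  let D' : Fin r → Derivation B A A := fun i => Derivation.mk'
    { toFun := D i
      map_add' := map_add _
      map_smul' := fun b a => by simp [Subalgebra.smul_def, hker] }
    (fun a c => (D i).leibniz a c)
  have hp' : ∀ n : ℕ, 0 < n → n < p → IsUnit (n : B) := by
    intro n h0 hn
    rw [← map_natCast (algebraMap k B)]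
    refine IsUnit.map _ (isUnit_iff_ne_zero.2 fun hz => ?_)
    rw [CharP.cast_eq_zero_iff k p] at hz
    exact Nat.not_dvd_of_pos_of_lt h0 hn hz
  let E : (Fin r → Fin p) → (Fin r →₀ ℕ) := fun e => Finsupp.equivFunOnFinite.symm fun i => (e i : ℕ)
  have hE : Function.Injective E := fun e e' he =>
    funext fun i => Fin.ext (by simpa [E] using DFunLike.congr_fun he i)
  have hli : LinearIndependent B (mono x (p := p)) := by
    rw [Fintype.linearIndependent_iff]
    intro c hc
    let P : MvPolynomial (Fin r) B := ∑ e, MvPolynomial.monomial (E e) (c e)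
    have hP : P = 0 := by
      refine eq_zero_of_aeval_eq_zero x D' hD p hp' Subtype.val_injective P (fun d hd i => ?_) ?_
      · obtain ⟨e, -, he⟩ := Finset.mem_biUnion.1 (MvPolynomial.support_sum hd)
        rw [MvPolynomial.support_monomial] at he
        split_ifs at he
        · simp at he
        · rw [Finset.mem_singleton] at he; subst he; exact (e i).2
      · rw [← hc, map_sum]
        refine Finset.sum_congr rfl fun e _ => ?_
        rw [MvPolynomial.aeval_monomial, Finsupp.prod_fintype _ _ (fun i => pow_zero _), Algebra.smul_def]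
        rfl
    intro e
    have := congrArg (MvPolynomial.coeff (E e)) hP
    simpa [P, MvPolynomial.coeff_sum, MvPolynomial.coeff_monomial, hE.eq_iff] using this
  refine ⟨Module.Basis.mk hli ?_, fun e => Module.Basis.mk_apply _ _ e⟩
  intro a ha
  clear ha
  refine adjoin_le_span_mono x hp (fun i => ?_) ?_
  · exact Algebra.mem_bot.2 ⟨⟨x i ^ p, hB ▸ Algebra.subset_adjoin ⟨x i, rfl⟩⟩, rfl⟩
  · show a ∈ Algebra.adjoin B (Set.range x)
    have : a ∈ Algebra.adjoin k (Set.range x) := hgen ▸ Algebra.mem_top
    induction this using Algebra.adjoin_induction with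
    | mem a ha => exact Algebra.subset_adjoin ha
    | algebraMap c =>
      exact (Algebra.adjoin B (Set.range x)).algebraMap_mem (algebraMap k B c)
    | add a c _ _ ha hc => exact add_mem ha hc
    | mul a c _ _ ha hc => exact mul_mem ha hc

/-- In characteristic `p`, truncated monomials form a basis over `k[A ^ p]`. -/
theorem exists_basis_mono (h : IsComul ε Δ) [Module.Finite k A] (hnil : ∀ a, ε a = 0 → IsNilpotent a)
    (p : ℕ) [Fact p.Prime] [CharP k p] (B : Subalgebra k A)
    (hB : B = Algebra.adjoin k (Set.range fun a : A => a ^ p)) :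
    ∃ (r : ℕ) (x : Fin r → A), (∀ i, ε (x i) = 0) ∧
      (r = 0 → Module.finrank k A = 1) ∧
      ∃ b : Module.Basis (Fin r → Fin p) B A, ∀ e, b e = mono x e := by
  obtain ⟨r, x, D, hxε, hgen, hD⟩ := exists_coords h hnil
  refine ⟨r, x, hxε, fun hr => ?_, basis_mono_of_coords p B hB x D hgen hD⟩
  subst hr
  rw [Set.range_eq_empty, Algebra.adjoin_empty] at hgen
  have : Nontrivial A := ε.toRingHom.domain_nontrivial
  rw [← Subalgebra.finrank_bot (F := k) (E := A), hgen, ← Subalgebra.topEquiv.toLinearEquiv.finrank_eq]

theorem isComul_restrict (h : IsComul ε Δ) (p : ℕ) [Fact p.Prime] [CharP k p] (B : Subalgebra k A)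
    (hB : B = Algebra.adjoin k (Set.range fun a : A => a ^ p)) :
    ∃ Δ' : B →ₐ[k] B ⊗[k] B, IsComul (ε.comp B.val) Δ' := by
  have : Nontrivial A := ε.toRingHom.domain_nontrivial
  let ι : B ⊗[k] B →ₐ[k] A ⊗[k] A := Algebra.TensorProduct.map B.val B.val
  have hι : Function.Injective ι := by
    show Function.Injective (TensorProduct.map B.val.toLinearMap B.val.toLinearMap)
    exact TensorProduct.map_injective_of_flat_flat _ _ Subtype.val_injective Subtype.val_injective
  have hcomm : ∀ u : A ⊗[k] A, u ^ p ∈ ι.range := by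
    have : CharP (A ⊗[k] A) p := by
      have : Nontrivial (A ⊗[k] A) :=
        ((Algebra.TensorProduct.lift ε ε fun _ _ => Commute.all _ _) : A ⊗[k] A →ₐ[k] k).toRingHom.domain_nontrivial
      exact charP_of_injective_algebraMap (algebraMap k (A ⊗[k] A)).injective p
    intro u
    induction u using TensorProduct.induction_on with
    | zero => rw [zero_pow (Fact.out : p.Prime).ne_zero]; exact zero_mem _
    | add u w hu hw => rw [add_pow_char]; exact add_mem hu hw
    | tmul a c =>
      have ha : a ^ p ∈ B := hB ▸ Algebra.subset_adjoin ⟨a, rfl⟩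
      have hc : c ^ p ∈ B := hB ▸ Algebra.subset_adjoin ⟨c, rfl⟩
      exact ⟨⟨a ^ p, ha⟩ ⊗ₜ ⟨c ^ p, hc⟩, by simp [ι, Algebra.TensorProduct.tmul_pow]⟩
  have hΔ : ∀ b : B, (Δ.comp B.val) b ∈ ι.range := by
    intro b
    have hb : (b : A) ∈ Algebra.adjoin k (Set.range fun a : A => a ^ p) := hB ▸ b.2
    have : Algebra.adjoin k (Set.range fun a : A => a ^ p) ≤ ι.range.comap Δ := by
      rw [Algebra.adjoin_le_iff]
      rintro _ ⟨a, rfl⟩
      simpa using hcomm (Δ a)
    exact this hb
  let e := AlgEquiv.ofInjective ι hι
  let Δ' : B →ₐ[k] B ⊗[k] B := e.symm.toAlgHom.comp ((Δ.comp B.val).codRestrict ι.range hΔ)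
  have hι' : ∀ b, ι (Δ' b) = Δ b := fun b => congrArg Subtype.val (e.apply_symm_apply _)
  refine ⟨Δ', ⟨fun b => ?_, fun b => ?_⟩⟩ <;> apply Subtype.val_injective
  · refine Eq.trans ?_ ((congrArg (fun z => TensorProduct.lid k A (LinearMap.rTensor A ε.toLinearMap z)) (hι' b)).trans (h.left b))
    generalize Δ' b = z
    induction z using TensorProduct.induction_on with
    | zero => simp
    | add u w hu hw => simp only [map_add, AddMemClass.coe_add] at hu hw ⊢; rw [hu, hw]
    | tmul a c => simp [ι]
  · refine Eq.trans ?_ ((congrArg (fun z => TensorProduct.rid k A (LinearMap.lTensor A ε.toLinearMap z)) (hι' b)).trans (h.right b))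
    generalize Δ' b = z
    induction z using TensorProduct.induction_on with
    | zero => simp
    | add u w hu hw => simp only [map_add, AddMemClass.coe_add] at hu hw ⊢; rw [hu, hw]
    | tmul a c => simp [ι]

/-- The dimension is a power of the exponential characteristic. -/
theorem exists_finrank_eq_pow (h : IsComul ε Δ) [Module.Finite k A]
    (hnil : ∀ a, ε a = 0 → IsNilpotent a) :
    ∃ n : ℕ, Module.finrank k A = ringExpChar k ^ n := by
  classical
  obtain ⟨p, hp⟩ := CharP.exists k
  obtain hpr | rfl := CharP.char_is_prime_or_zero k p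
  · haveI := Fact.mk hpr
    rw [ringExpChar.eq k p]
    suffices key : ∀ (d : ℕ) (A : Type v) [CommRing A] [Algebra k A] [Module.Finite k A]
        (ε : A →ₐ[k] k) (Δ : A →ₐ[k] A ⊗[k] A), IsComul ε Δ → (∀ a, ε a = 0 → IsNilpotent a) →
        Module.finrank k A = d → ∃ n : ℕ, Module.finrank k A = p ^ n from
      key _ A ε Δ h hnil rfl
    intro d
    induction d using Nat.strong_induction_on with
    | _ d ih =>
      intro A _ _ _ ε Δ h hnil hd
      let B := Algebra.adjoin k (Set.range fun a : A => a ^ p)
      obtain ⟨r, x, -, hr, b, -⟩ := exists_basis_mono h hnil p B rfl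
      have hmul : Module.finrank k B * p ^ r = Module.finrank k A := by
        have := Module.Free.of_basis b
        have : Nontrivial A := ε.toRingHom.domain_nontrivial
        have : Nontrivial B := inferInstance
        rw [← Module.finrank_mul_finrank k B A, Module.finrank_eq_card_basis b]
        simp
      rcases Nat.eq_zero_or_pos r with h0 | h0
      · exact ⟨0, by simpa using hr h0⟩
      · have : Nontrivial A := ε.toRingHom.domain_nontrivial
        have hlt : Module.finrank k B < d := by
          have h2 : 1 < p ^ r := Nat.one_lt_pow h0.ne' hpr.one_lt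
          have : 0 < Module.finrank k A := Module.finrank_pos
          rcases Nat.eq_zero_or_pos (Module.finrank k B) with hz | hz
          · rw [hz] at hmul; omega
          · nlinarith
        obtain ⟨Δ', hΔ'⟩ := isComul_restrict h p B rfl
        obtain ⟨n, hn⟩ := ih _ hlt B (ε.comp B.val) Δ' hΔ'
          (fun a ha => by
            obtain ⟨n, hn⟩ := hnil a.1 ha
            exact ⟨n, Subtype.ext (by simpa using hn)⟩) rfl
        exact ⟨n + r, by rw [← hmul, hn, pow_add]⟩
  · haveI := CharP.charP_to_charZero k
    refine ⟨0, ?_⟩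
    obtain ⟨r, x, D, -, hgen, hD⟩ := exists_coords h hnil
    rcases Nat.eq_zero_or_pos r with rfl | h0
    · rw [Set.range_eq_empty, Algebra.adjoin_empty] at hgen
      have : Nontrivial A := ε.toRingHom.domain_nontrivial
      rw [pow_zero, ← Subalgebra.finrank_bot (F := k) (E := A), hgen, ← Subalgebra.topEquiv.toLinearEquiv.finrank_eq]
    · have : Nontrivial A := ε.toRingHom.domain_nontrivial
      exfalso
      let N := Module.finrank k A + 1
      let i : Fin r := ⟨0, h0⟩
      have hli : LinearIndependent k (fun j : Fin N => x i ^ (j : ℕ)) := by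
        rw [Fintype.linearIndependent_iff]
        intro c hc
        let P : MvPolynomial (Fin r) k := ∑ j : Fin N, MvPolynomial.monomial (Finsupp.single i (j : ℕ)) (c j)
        have hP : P = 0 := by
          refine eq_zero_of_aeval_eq_zero x D hD N
            (fun n h0 _ => isUnit_iff_ne_zero.2 (Nat.cast_ne_zero.2 h0.ne')) (algebraMap k A).injective
            P (fun d hd l => ?_) ?_
          · obtain ⟨j, -, he⟩ := Finset.mem_biUnion.1 (MvPolynomial.support_sum hd)
            rw [MvPolynomial.support_monomial] at he
            split_ifs at he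
            · simp at he
            · rw [Finset.mem_singleton] at he
              subst he
              rw [Finsupp.single_apply]
              split_ifs
              · exact j.2
              · exact Nat.succ_pos _
          · rw [← hc, map_sum]
            simp [MvPolynomial.aeval_monomial, Algebra.smul_def]
        intro j
        have := congrArg (MvPolynomial.coeff (Finsupp.single i (j : ℕ))) hP
        simpa [P, MvPolynomial.coeff_sum, MvPolynomial.coeff_monomial, (Finsupp.single_injective i).eq_iff, Fin.val_inj] using this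
      have := hli.fintype_card_le_finrank
      simp [N] at this

end Groth.Agent.FinHopf
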