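import Mathlib.Algebra.MvPolynomial.PDeriv
import Mathlib.RingTheory.Derivation.Basic
import Mathlib.LinearAlgebra.Matrix.NonsingularInverse
import Mathlib.RingTheory.Jacobson.Ideal

/-!
# Monomials in elements admitting dual derivations

If `x i : A` admit `B`-derivations `∂ i` with `∂ i (x j) = δ`, monomials with exponents below `N`,
where `1, …, N-1` are units of `B`, are linearly independent over `B`.
-/

universe u v w

namespace Groth.Agent.FinHopf

open MvPolynomial

variable {B : Type u} [CommRing B] {A : Type v} [CommRing A] [Algebra B A]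

theorem derivation_aeval {ι : Type w} [DecidableEq ι] (x : ι → A) (D : Derivation B A A) (i : ι)
    (hx : ∀ j, D (x j) = if i = j then 1 else 0) (P : MvPolynomial ι B) :
    D (aeval x P) = aeval x (pderiv i P) := by
  induction P using MvPolynomial.induction_on with
  | C b => simp
  | add p q hp hq => simp [hp, hq]
  | mul_X p j hp =>
    rw [map_mul, aeval_X, D.leibniz, hp, hx, (pderiv i).leibniz, pderiv_X, Pi.single_apply]
    by_cases h : i = j
    · subst h; simp
    · simp [h, Ne.symm h]

theorem eq_zero_of_aeval_eq_zero {ι : Type w} [DecidableEq ι] (x : ι → A) (D : ι → Derivation B A A)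
    (hx : ∀ i j, D i (x j) = if i = j then 1 else 0) (N : ℕ)
    (hN : ∀ n : ℕ, 0 < n → n < N → IsUnit (n : B))
    (hB : Function.Injective (algebraMap B A)) (P : MvPolynomial ι B)
    (hP : ∀ e ∈ P.support, ∀ i, e i < N) (h0 : aeval x P = 0) : P = 0 := by
  suffices key : ∀ (n : ℕ) (P : MvPolynomial ι B), P.totalDegree ≤ n →
      (∀ e ∈ P.support, ∀ i, e i < N) → aeval x P = 0 → P = 0 from key _ P le_rfl hP h0
  intro n
  induction n with
  | zero =>
    intro P hd _ h0
    rw [totalDegree_eq_zero_iff_eq_C.1 (Nat.le_zero.1 hd), aeval_C] at h0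
    rw [totalDegree_eq_zero_iff_eq_C.1 (Nat.le_zero.1 hd), hB (h0.trans (map_zero _).symm), map_zero]
  | succ n ih =>
    intro P hd hP h0
    refine ih P ?_ hP h0
    refine Finset.sup_le fun e he => ?_
    by_contra hlt
    have hne : ∃ i, 0 < e i := by
      by_contra! h
      have : e = 0 := Finsupp.ext fun i => Nat.le_zero.1 (h i)
      subst this
      simp at hlt
    obtain ⟨i, hi⟩ := hne
    have hq : ∀ m ∈ (pderiv i P).support, m + Finsupp.single i 1 ∈ P.support := by
      intro m hm
      rw [mem_support_iff, coeff_pderiv] at hm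
      rw [mem_support_iff]
      intro hh
      simp [hh] at hm
    have hz : pderiv i P = 0 := by
      refine ih _ (Finset.sup_le fun m hm => ?_) (fun m hm j => ?_) ?_
      · have := (le_totalDegree (hq m hm)).trans hd
        rw [Finsupp.sum_add_index' (fun _ => rfl) (fun _ _ _ => rfl), Finsupp.sum_single_index rfl] at this
        omega
      · exact lt_of_le_of_lt (by simp) (hP _ (hq m hm) j)
      · rw [← derivation_aeval x (D i) i (hx i), h0, map_zero]
    have hce : coeff (e - Finsupp.single i 1) (pderiv i P) = 0 := by rw [hz, coeff_zero]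
    rw [coeff_pderiv, tsub_add_cancel_of_le (Finsupp.single_le_iff.2 hi)] at hce
    have hu : IsUnit ((((e - Finsupp.single i 1 : ι →₀ ℕ)) i + 1 : ℕ) : B) := by
      refine hN _ (Nat.succ_pos _) ?_
      have := hP e he i
      simp
      omega
    push_cast at hu
    exact mem_support_iff.1 he (by simpa using (hu.mul_left_eq_zero).1 hce)

theorem derivation_sum_apply {ι : Type w} (s : Finset ι) (D : ι → Derivation B A A) (a : A) :
    (∑ l ∈ s, D l) a = ∑ l ∈ s, D l a := by
  classical
  induction s using Finset.induction_on with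
  | empty => simp
  | insert l s hl ih => rw [Finset.sum_insert hl, Finset.sum_insert hl, Derivation.add_apply, ih]

/-- Derivations with invertible value matrix can be normalised. -/
theorem exists_dual_derivations {ι : Type w} [Fintype ι] [DecidableEq ι] (x : ι → A)
    (D : ι → Derivation B A A) (hu : IsUnit (Matrix.of fun i j => D i (x j)).det) :
    ∃ D' : ι → Derivation B A A, (∀ i j, D' i (x j) = if i = j then 1 else 0) ∧
      ∀ i a, (∀ l, D l a = 0) → D' i a = 0 := by
  set M : Matrix ι ι A := Matrix.of fun i j => D i (x j) with hM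
  refine ⟨fun i => ∑ l, M⁻¹ i l • D l, fun i j => ?_, fun i a ha => ?_⟩
  · have := congrFun (congrFun (Matrix.nonsing_inv_mul M hu) i) j
    rw [Matrix.mul_apply, Matrix.one_apply] at this
    rw [← this]
    simp [hM, derivation_sum_apply]
  · simp [derivation_sum_apply, ha]

end Groth.Agent.FinHopf
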