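import Groth.Agent.FinHopf.PerfectStructure
import Groth.Agent.CartDualLib.Examples
import Groth.Agent.SigmaLin.Witt
import Groth.Prelude.Def_AlphaPn

/-!
# A non-reduced finite group scheme contains `μ_p` or `α_p`
-/

set_option autoImplicit false

universe u v w

open scoped TensorProduct

namespace Groth.Agent.FinHopf

open WithConv

variable {k : Type u} [Field k]

/-- A finite algebra map onto a `p`-dimensional infinitesimal Hopf algebra is surjective as soon as it does not
kill the tangent vector. -/
theorem surjective_of_derivation [PerfectField k] (p : ℕ) [Fact p.Prime] [CharP k p] {H : Type w} [CommRing H]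
    [HopfAlgebra k H] [Module.Finite k H] (hnil : ∀ a, Bialgebra.counitAlgHom k H a = 0 → IsNilpotent a)
    (hdim : Module.finrank k H = p) {A : Type v} [CommRing A] [Algebra k A] (f : A →ₐ[k] H) (δ : H →ₗ[k] k)
    (hδ : ∀ u w, δ (u * w) = Coalgebra.counit (R := k) u * δ w + Coalgebra.counit (R := k) w * δ u)
    (a : A) (ha : δ (f a) ≠ 0) : Function.Surjective f := by
  classical
  let ε := Bialgebra.counitAlgHom k H
  obtain ⟨r, x, D, e, hxε, hgen, hD, he, hrank⟩ :=
    exists_coords_truncated p _ H _ _ (isComul_comul (k := k) (A := H)) hnil rfl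
  have hsum : ∑ i, e i = 1 := Nat.pow_right_injective (Fact.out : p.Prime).two_le (by simp only; rw [pow_one, ← hrank, hdim])
  have hr : r = 1 := by
    have h1 : r ≤ ∑ i, e i := by simpa using Finset.sum_le_sum (s := Finset.univ) fun i _ => (he i).1
    rcases Nat.eq_zero_or_pos r with rfl | h0
    · simp at hsum
    · omega
  subst hr
  let c := f a - algebraMap k H (ε (f a))
  have hc0 : ε c = 0 := by simp [c, ε]
  set m := RingHom.ker ε.toRingHom with hm
  have hδ1 : δ 1 = 0 := by
    have := hδ 1 1
    simpa using this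
  have hδ2 : ∀ w ∈ m ^ 2, δ w = 0 := by
    intro w hw
    rw [pow_two] at hw
    induction hw using Submodule.mul_induction_on' with
    | mem_mul_mem u hu v hv =>
      rw [hδ, show Coalgebra.counit (R := k) u = 0 from hu, show Coalgebra.counit (R := k) v = 0 from hv, zero_mul,
        zero_mul, add_zero]
    | add u _ v _ hu hv => rw [map_add, hu, hv, add_zero]
  have hexp : ∀ b, ε b = 0 → b - ε (D 0 b) • x 0 ∈ m ^ 2 := fun b hb => by
    have := sub_first_order_mem hxε hgen hD b
    rwa [hb, map_zero, sub_zero, Fin.sum_univ_one] at this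
  have hμ : ε (D 0 c) ≠ 0 := fun h0 => by
    have h1 := hδ2 _ (hexp c hc0)
    rw [h0, zero_smul, sub_zero] at h1
    apply ha
    rwa [map_sub, Algebra.algebraMap_eq_smul_one, map_smul, hδ1, smul_zero, sub_zero] at h1
  have htop : Algebra.adjoin k (Set.range fun _ : Fin 1 => c) = ⊤ := by
    haveI : IsNoetherianRing H := IsNoetherianRing.of_finite k H
    refine adjoin_eq_top_of_le (ε := ε) _ (fun _ => hc0)
      ((Ideal.FG.isNilpotent_iff_le_nilradical (IsNoetherian.noetherian _)).2 fun b hb => hnil b hb) fun b hb => ?_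
    refine ⟨(ε (D 0 b) / ε (D 0 c)) • c, Subalgebra.smul_mem _ (Algebra.subset_adjoin (Set.mem_range_self (0 : Fin 1))) _, by simp [hc0], ?_⟩
    rw [show b - (ε (D 0 b) / ε (D 0 c)) • c =
        (b - ε (D 0 b) • x 0) - algebraMap k H (ε (D 0 b) / ε (D 0 c)) * (c - ε (D 0 c) • x 0) by
      rw [← Algebra.smul_def, smul_sub _ c, smul_smul, div_mul_cancel₀ _ hμ]; abel]
    exact sub_mem (hexp b hb) (Ideal.mul_mem_left _ _ (hexp c hc0))
  intro b
  have hb : b ∈ f.range := by
    refine (Algebra.adjoin_le (S := f.range) ?_) (htop ▸ Algebra.mem_top : b ∈ Algebra.adjoin k (Set.range fun _ : Fin 1 => c))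
    rintro _ ⟨_, rfl⟩
    exact sub_mem ⟨a, rfl⟩ (Subalgebra.algebraMap_mem _ _)
  exact hb

theorem exists_tangent [IsAlgClosed k] {A : Type v} [CommRing A] [HopfAlgebra k A] [Module.Finite k A]
    (hA : ¬ IsReduced A) : ∃ d : CartDual.D k A, d ≠ 0 ∧
      ∀ x y : A, d (x * y) = Coalgebra.counit (R := k) x * d y + Coalgebra.counit (R := k) y * d x := by
  classical
  let ε := Bialgebra.counitAlgHom k A
  let m : Ideal A := RingHom.ker ε
  have hne : ¬ m ≤ m ^ 2 := by
    intro hle
    apply hA
    haveI : IsNoetherianRing A := IsNoetherianRing.of_finite k A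
    have hidem : ∀ γ : WithConv (A →ₐ[k] k), ptIdeal γ ^ 2 = ptIdeal γ := by
      intro γ
      have h1 : ptIdeal (1 : WithConv (A →ₐ[k] k)) = m := rfl
      refine le_antisymm (Ideal.pow_le_self two_ne_zero) fun b hb => ?_
      have hb' : translEquiv γ b ∈ (ptIdeal γ).map (translEquiv γ) := Ideal.mem_map_of_mem _ hb
      rw [map_ptIdeal, h1] at hb'
      have hb2 := hle hb'
      rw [← h1, ← map_ptIdeal γ, ← Ideal.map_pow, Ideal.mem_map_iff_of_surjective _ (translEquiv γ).surjective] at hb2
      obtain ⟨c, hc, hce⟩ := hb2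
      rwa [← (translEquiv γ).injective hce]
    refine ⟨fun x hx => ?_⟩
    have htop : (Submodule.span A {x}).annihilator = ⊤ := by
      by_contra hne'
      obtain ⟨M, hM, hle'⟩ := Ideal.exists_le_maximal _ hne'
      obtain ⟨γ, hγ⟩ := exists_pt (k := k) M
      obtain ⟨e, he, hspan⟩ := (Ideal.isIdempotentElem_iff_of_fg (ptIdeal γ) (IsNoetherian.noetherian _)).1
        (show IsIdempotentElem (ptIdeal γ) by rw [IsIdempotentElem, ← pow_two, hidem])
      have hxM : x ∈ ptIdeal γ := by
        obtain ⟨n, hn⟩ := hx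
        refine eq_zero_of_pow_eq_zero (n := n) ?_
        rw [← map_pow, hn, map_zero]
      rw [hspan, Submodule.mem_span_singleton] at hxM
      obtain ⟨c, hc⟩ := hxM
      have h1 : (1 - e) ∈ (Submodule.span A {x}).annihilator := by
        rw [Submodule.mem_annihilator_span_singleton, ← hc, smul_eq_mul, smul_eq_mul]
        linear_combination -c * he.eq
      have he1 : e ∈ M := by rw [← hγ, hspan]; exact Submodule.mem_span_singleton_self e
      exact hM.ne_top ((Ideal.eq_top_iff_one M).2 (by simpa using add_mem (hle' h1) he1))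
    have h1 := Submodule.mem_annihilator_span_singleton x 1 |>.1 (htop ▸ Submodule.mem_top)
    rwa [one_smul] at h1
  let W : Submodule k A := (m ^ 2).restrictScalars k ⊔ k ∙ (1 : A)
  have hW : W < ⊤ := by
    refine lt_top_iff_ne_top.2 fun h => hne fun b hb => ?_
    obtain ⟨u, hu, w, hw, huw⟩ := Submodule.mem_sup.1 (h ▸ Submodule.mem_top : b ∈ W)
    obtain ⟨c, rfl⟩ := Submodule.mem_span_singleton.1 hw
    have hc : c = 0 := by
      have h2 := congrArg ε huw
      rw [map_add, map_smul, map_one, show ε u = 0 from Ideal.pow_le_self two_ne_zero hu, show ε b = 0 from hb,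
        zero_add, smul_eq_mul, mul_one] at h2
      exact h2
    rw [← huw, hc, zero_smul, add_zero]
    exact hu
  obtain ⟨φ, hφ0, hφ⟩ := Submodule.exists_le_ker_of_lt_top _ hW
  refine ⟨toConv φ, fun h => hφ0 (congrArg ofConv h), fun x y => ?_⟩
  have h1 : φ ((x - algebraMap k A (ε x)) * (y - algebraMap k A (ε y))) = 0 := by
    refine hφ (Submodule.mem_sup_left ?_)
    show _ ∈ m ^ 2
    rw [pow_two]
    exact Ideal.mul_mem_mul (by simp [m, ε, RingHom.mem_ker]) (by simp [m, ε, RingHom.mem_ker])
  have h0 : φ 1 = 0 := hφ (Submodule.mem_sup_right (Submodule.mem_span_singleton_self _))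
  rw [show (x - algebraMap k A (ε x)) * (y - algebraMap k A (ε y)) =
    x * y - ε x • y - ε y • x + (ε x * ε y) • (1 : A) by simp only [Algebra.smul_def, map_mul]; ring,
    map_add, map_sub, map_sub, map_smul, map_smul, map_smul, h0, smul_zero, add_zero] at h1
  show φ (x * y) = ε x * φ y + ε y * φ x
  linear_combination h1

/-- A `p`-Lie algebra over an algebraically closed field has a vector fixed or killed by the `p`-map. -/
theorem exists_primitive_pow_eq [IsAlgClosed k] (p : ℕ) [Fact p.Prime] [CharP k p] {A : Type v} [CommRing A]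
    [HopfAlgebra k A] [Module.Finite k A] (hA : ¬ IsReduced A) :
    ∃ e : CartDual.D k A, e ≠ 0 ∧
      Coalgebra.comul (R := k) e = e ⊗ₜ[k] (1 : CartDual.D k A) + (1 : CartDual.D k A) ⊗ₜ[k] e ∧
      (e ^ p = 0 ∨ e ^ p = e) := by
  classical
  obtain ⟨d, hd0, hd⟩ := exists_tangent (k := k) hA
  let E : ℕ → CartDual.D k A := fun i => d ^ p ^ i
  let V : Submodule k (CartDual.D k A) := Submodule.span k (Set.range E)
  have hprim : ∀ x ∈ V, Coalgebra.comul (R := k) x = x ⊗ₜ[k] (1 : CartDual.D k A) + (1 : CartDual.D k A) ⊗ₜ[k] x := by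
    intro x hx
    induction hx using Submodule.span_induction with
    | mem x hx =>
      obtain ⟨i, rfl⟩ := hx
      show Coalgebra.comul (R := k) (d ^ p ^ i) = _
      rw [← Bialgebra.comulAlgHom_apply, map_pow, Bialgebra.comulAlgHom_apply,
        CartDualLib.comul_of_derivation d hd,
        AlphaPn.add_pow_prime_pow p i k (B := CartDual.D k A ⊗[k] CartDual.D k A) (a := d ⊗ₜ[k] 1) (b := 1 ⊗ₜ[k] d) (by
          show (d ⊗ₜ[k] (1 : CartDual.D k A)) * (1 ⊗ₜ[k] d) = (1 ⊗ₜ[k] d) * (d ⊗ₜ[k] 1)
          simp [Algebra.TensorProduct.tmul_mul_tmul]),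
        Algebra.TensorProduct.tmul_pow, Algebra.TensorProduct.tmul_pow, one_pow]
    | zero => simp
    | add x y _ _ hx hy => rw [map_add, hx, hy, TensorProduct.add_tmul, TensorProduct.tmul_add]; abel
    | smul c x _ hx => rw [map_smul, hx, smul_add, TensorProduct.smul_tmul', TensorProduct.tmul_smul]
  have hpoly : ∀ x ∈ V, ∃ f : Polynomial k, Polynomial.aeval d f = x := by
    intro x hx
    have : V ≤ (Polynomial.aeval (R := k) d).range.toSubmodule :=
      Submodule.span_le.2 (by rintro _ ⟨i, rfl⟩; exact ⟨Polynomial.X ^ p ^ i, by simp [E]⟩)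
    exact this hx
  have hcomm : ∀ x ∈ V, ∀ y ∈ V, Commute x y := by
    intro x hx y hy
    obtain ⟨f, rfl⟩ := hpoly x hx
    obtain ⟨g, rfl⟩ := hpoly y hy
    exact (Commute.all f g).map _
  have hadd : ∀ x ∈ V, ∀ y ∈ V, (x + y) ^ p = x ^ p + y ^ p := fun x hx y hy => by
    have := AlphaPn.add_pow_prime_pow p 1 k (hcomm x hx y hy)
    rwa [pow_one] at this
  have hmaps : ∀ x ∈ V, x ^ p ∈ V := by
    intro x hx
    induction hx using Submodule.span_induction with
    | mem x hx =>
      obtain ⟨i, rfl⟩ := hx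
      exact Submodule.subset_span ⟨i + 1, by simp [E, pow_succ, pow_mul]⟩
    | zero => rw [zero_pow (Fact.out : p.Prime).ne_zero]; exact zero_mem _
    | add x y hx' hy' hx hy => rw [hadd x hx' y hy']; exact add_mem hx hy
    | smul c x _ hx => rw [smul_pow]; exact Submodule.smul_mem _ _ hx
  let T : V →ₛₗ[frobenius k p] V :=
    { toFun := fun x => ⟨(x : CartDual.D k A) ^ p, hmaps _ x.2⟩
      map_add' := fun x y => Subtype.ext (hadd _ x.2 _ y.2)
      map_smul' := fun c x => Subtype.ext (by
        show ((c • (x : CartDual.D k A))) ^ p = frobenius k p c • (x : CartDual.D k A) ^ p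
        rw [smul_pow, frobenius_def]) }
  let e₀ : V := ⟨d, Submodule.subset_span ⟨0, by simp [E]⟩⟩
  by_cases hex : ∃ m : ℕ, (⇑T)^[m] e₀ = 0
  · have h0 : Nat.find hex ≠ 0 := fun h => by
      have := Nat.find_spec hex
      rw [h] at this
      exact hd0 (congrArg Subtype.val this)
    obtain ⟨m, hm⟩ := Nat.exists_eq_succ_of_ne_zero h0
    have hspec := Nat.find_spec hex
    rw [hm, Function.iterate_succ_apply'] at hspec
    refine ⟨((⇑T)^[m] e₀ : V), fun h => Nat.find_min hex (m := m) (by omega) (Subtype.ext h), hprim _ ((⇑T)^[m] e₀).2,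
      Or.inl (congrArg Subtype.val hspec)⟩
  · push Not at hex
    haveI : FiniteDimensional k V := Module.Finite.of_injective V.subtype Subtype.val_injective
    obtain ⟨v, -, hv0, hv⟩ := SigmaLin.exists_fixed_in_orbit T (SigmaLin.hypSol_frob p k) e₀ hex
    exact ⟨v, fun h => hv0 (Subtype.ext h), hprim _ v.2, Or.inr (congrArg Subtype.val hv)⟩

theorem exists_surjective_of_dual [PerfectField k] (p : ℕ) [Fact p.Prime] [CharP k p]
    {H : Type w} [CommRing H] [HopfAlgebra k H] [Module.Finite k H]
    (hnil : ∀ a, Bialgebra.counitAlgHom k H a = 0 → IsNilpotent a) (hdim : Module.finrank k H = p)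
    {H' : Type w} [CommRing H'] [HopfAlgebra k H'] [Module.Finite k H']
    (E : CartDual.D k H' ≃ₐc[k] H) (t : H')
    (ht : Coalgebra.comul (R := k) t = t ⊗ₜ[k] 1 + 1 ⊗ₜ[k] t)
    {A : Type v} [CommRing A] [HopfAlgebra k A] [Module.Finite k A]
    (g : H' →ₐc[k] CartDual.D k A) (hg : g t ≠ 0) : ∃ f : A →ₐc[k] H, Function.Surjective f := by
  let f : A →ₐc[k] H := (E : CartDual.D k H' →ₐc[k] H).comp ((CartDual.transpose k g).comp (CartDual.eval k A))
  obtain ⟨a, ha⟩ : ∃ a, (g t) a ≠ 0 := by
    by_contra h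
    push Not at h
    exact hg (WithConv.ofConv_injective (LinearMap.ext h))
  let δ : H →ₗ[k] k :=
    { toFun := fun z => (E.symm z) t
      map_add' := fun z z' => by rw [map_add]; rfl
      map_smul' := fun c z => by rw [map_smul]; rfl }
  refine ⟨f, surjective_of_derivation p hnil hdim (f : A →ₐ[k] H) δ (fun u w => ?_) a ?_⟩
  · have hcu : ∀ u, Coalgebra.counit (R := k) u = (E.symm u) 1 := fun u => by
      rw [← CartDual.coalgebra_counit_apply, CoalgHomClass.counit_comp_apply]
    show (E.symm (u * w)) t = _ * (E.symm w) t + _ * (E.symm u) t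
    rw [map_mul, LinearMap.convMul_apply, ht, map_add, map_add, TensorProduct.map_tmul, TensorProduct.map_tmul,
      LinearMap.mul'_apply, LinearMap.mul'_apply, hcu, hcu, ← CartDual.coe_apply, ← CartDual.coe_apply,
      ← CartDual.coe_apply, ← CartDual.coe_apply]
    ring
  · show (E.symm (E (CartDual.transpose k g (CartDual.eval k A a)))) t ≠ 0
    rw [BialgEquiv.symm_apply_apply]
    exact ha

theorem exists_surjective_mu_or_alpha [IsAlgClosed k] (p : ℕ) [Fact p.Prime] [CharP k p] {A : Type v} [CommRing A]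
    [HopfAlgebra k A] [Module.Finite k A] (hA : ¬ IsReduced A) :
    (∃ f : A →ₐc[k] MonoidAlgebra k (Multiplicative (ZMod p)), Function.Surjective f) ∨
      (∃ f : A →ₐc[k] AlphaP.A p k, Function.Surjective f) := by
  classical
  obtain ⟨e, he0, hprim, hcase⟩ := exists_primitive_pow_eq (k := k) p hA
  have heε : Coalgebra.counit (R := k) e = 0 := by
    have h := congrArg (fun z => CartDual.ev₂ k A z ((1 : A) ⊗ₜ (1 : A))) hprim
    have h1 : (1 : CartDual.D k A) 1 = 1 := by
      show algebraMap k k (Coalgebra.counit (1 : A)) = 1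
      rw [Bialgebra.counit_one, map_one]
    simp only [map_add, LinearMap.add_apply, CartDual.ev₂_coalgebra_comul_tmul, CartDual.ev₂_tmul, h1, mul_one,
      one_mul] at h
    rw [CartDual.coalgebra_counit_apply]
    linear_combination -h
  let S : Subalgebra k (CartDual.D k A) := Algebra.adjoin k {e}
  letI : CommRing S := { (inferInstance : Ring S) with
    mul_comm := fun x y => Subtype.ext (Algebra.commute_of_mem_adjoin_singleton_of_commute
      y.2 (Algebra.commute_of_mem_adjoin_self x.2).symm).eq }
  let eS : S := ⟨e, Algebra.self_mem_adjoin_singleton k e⟩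
  rcases hcase with hp | hp
  · right
    obtain ⟨E, -⟩ := CartDualLib.exists_bialgEquiv_dual_alphaP p k
    have hpS : eS ^ p = 0 := Subtype.ext hp
    let φ : AlphaP.A p k →ₐ[k] CartDual.D k A := S.val.comp (AlphaP.lift p k eS hpS)
    have hφx : φ (AlphaP.x p k) = e := congrArg Subtype.val (AlphaP.lift_x (R := k) eS hpS)
    have hc : (Bialgebra.counitAlgHom k (CartDual.D k A)).comp φ = Bialgebra.counitAlgHom k (AlphaP.A p k) :=
      AlphaP.algHom_ext (by
        show Coalgebra.counit (R := k) (φ _) = Coalgebra.counit (R := k) (AlphaP.x p k)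
        rw [hφx, heε, AlphaP.counit_x])
    have hΔ : (Algebra.TensorProduct.map φ φ).comp (Bialgebra.comulAlgHom k (AlphaP.A p k)) =
        (Bialgebra.comulAlgHom k (CartDual.D k A)).comp φ :=
      AlphaP.algHom_ext (by
        show Algebra.TensorProduct.map φ φ (Coalgebra.comul (AlphaP.x p k)) = Coalgebra.comul (φ (AlphaP.x p k))
        rw [AlphaP.comul_x, hφx, hprim, map_add, Algebra.TensorProduct.map_tmul,
          Algebra.TensorProduct.map_tmul, hφx, map_one])
    refine exists_surjective_of_dual p (fun a ha => ⟨p, ?_⟩) (AlphaP.finrank_eq p k) E (AlphaP.x p k) (AlphaP.comul_x p k)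
      (BialgHom.ofAlgHom φ hc hΔ) (by show φ _ ≠ 0; rw [hφx]; exact he0)
    obtain ⟨f, rfl⟩ := AlphaP.mk_surjective p k a
    rw [← AlphaP.aeval_x, Polynomial.aeval_eq_sum_range, sum_pow_char p]
    refine Finset.sum_eq_zero fun i _ => ?_
    rcases Nat.eq_zero_or_pos i with rfl | hi
    · have : f.coeff 0 = 0 := by
        rw [← AlphaP.aeval_x, ← Polynomial.aeval_algHom_apply, show Bialgebra.counitAlgHom k (AlphaP.A p k) (AlphaP.x p k) = 0 from AlphaP.counit_x p k] at ha
        simpa [Polynomial.coeff_zero_eq_eval_zero] using ha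
      rw [this, zero_smul, zero_pow (Fact.out : p.Prime).ne_zero]
    · rw [smul_pow, ← pow_mul, AlphaP.x_pow_of_le p k (Nat.le_mul_of_pos_left p hi), smul_zero]
  · left
    let G := Multiplicative (ZMod p)
    obtain ⟨E, -⟩ := CartDualLib.exists_bialgEquiv_dual_constGrp k G
    let c : ZMod p →+* k := ZMod.castHom dvd_rfl k
    let ι : ConstGrp.F k G := fun b => c (Multiplicative.toAdd b)
    have hι : Coalgebra.comul (R := k) ι = ι ⊗ₜ[k] 1 + 1 ⊗ₜ[k] ι := by
      refine CartDualLib.pair_injective k G (funext fun ab => ?_)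
      obtain ⟨a, b⟩ := ab
      rw [ConstGrp.pair_comul, map_add, ConstGrp.add_apply, ConstGrp.pair_tmul, ConstGrp.pair_tmul]
      simp only [ι, ConstGrp.one_apply, mul_one, one_mul]
      show c (Multiplicative.toAdd a + Multiplicative.toAdd b) = _
      exact map_add c _ _
    have hroot : Polynomial.aeval ι ((Polynomial.X : Polynomial k) ^ p - Polynomial.X) = 0 := by
      refine funext fun b => ?_
      show ConstGrp.ev k b (Polynomial.aeval ι ((Polynomial.X : Polynomial k) ^ p - Polynomial.X)) = 0
      rw [map_sub, map_pow, Polynomial.aeval_X, map_sub, map_pow, ConstGrp.ev_apply, ← map_pow, ZMod.pow_card, sub_self]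
    let π : AdjoinRoot ((Polynomial.X : Polynomial k) ^ p - Polynomial.X) →ₐ[k] ConstGrp.F k G :=
      AdjoinRoot.liftAlgHom _ (Algebra.ofId k _) ι hroot
    have hπ : π (AdjoinRoot.root _) = ι := AdjoinRoot.liftAlgHom_root _ _ _ _
    have hmonic : ((Polynomial.X : Polynomial k) ^ p - Polynomial.X).Monic :=
      Polynomial.monic_X_pow_sub (by rw [Polynomial.degree_X]; exact_mod_cast (Fact.out : p.Prime).one_lt)
    haveI := hmonic.finite_adjoinRoot
    have hbij : Function.Bijective π := by
      have hs : Function.Surjective π.toLinearMap := by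
        rw [← LinearMap.range_eq_top, eq_top_iff, ← (ConstGrp.basis k G).span_eq, Submodule.span_le]
        rintro _ ⟨j, rfl⟩
        refine ⟨1 - (AdjoinRoot.root _ - algebraMap k _ (c (Multiplicative.toAdd j))) ^ (p - 1), funext fun b => ?_⟩
        let χ := (ConstGrp.ev k b).comp π
        have hχ : χ (AdjoinRoot.root _) = ι b := congrFun hπ b
        show χ (1 - (AdjoinRoot.root _ - algebraMap k _ (c (Multiplicative.toAdd j))) ^ (p - 1)) = _
        rw [map_sub, map_one, map_pow, map_sub, hχ, AlgHom.commutes, ConstGrp.basis_apply, Algebra.algebraMap_self,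
          RingHom.id_apply]
        rcases eq_or_ne b j with rfl | hne
        · rw [ConstGrp.e_apply_self, sub_self, zero_pow (by have := (Fact.out : p.Prime).two_le; omega), sub_zero]
        · rw [ConstGrp.e_apply_of_ne hne, ← map_sub, ← map_pow,
            ZMod.pow_card_sub_one_eq_one (sub_ne_zero.2 fun h => hne (Multiplicative.toAdd.injective h)), map_one,
            sub_self]
      have hd : Module.finrank k (AdjoinRoot ((Polynomial.X : Polynomial k) ^ p - Polynomial.X)) =
          Module.finrank k (ConstGrp.F k G) := by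
        rw [(AdjoinRoot.powerBasis' hmonic).finrank, AdjoinRoot.powerBasis'_dim,
          Module.finrank_eq_card_basis (ConstGrp.basis k G), FiniteField.X_pow_card_sub_X_natDegree_eq k (Fact.out : p.Prime).one_lt]
        simp [G]
      exact ⟨(LinearMap.injective_iff_surjective_of_finrank_eq_finrank hd).2 hs, hs⟩
    let P := AlgEquiv.ofBijective π hbij
    have hpS : Polynomial.aeval eS ((Polynomial.X : Polynomial k) ^ p - Polynomial.X) = 0 := by
      rw [map_sub, map_pow, Polynomial.aeval_X, sub_eq_zero]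
      exact Subtype.ext hp
    let φ : ConstGrp.F k G →ₐ[k] CartDual.D k A :=
      (S.val.comp (AdjoinRoot.liftAlgHom _ (Algebra.ofId k S) eS hpS)).comp (P.symm : ConstGrp.F k G →ₐ[k] _)
    have hPι : P.symm ι = AdjoinRoot.root _ := by
      rw [← hπ]
      exact (AlgEquiv.symm_apply_apply P (AdjoinRoot.root _) :)
    have hφι : φ ι = e := by
      show S.val (AdjoinRoot.liftAlgHom _ (Algebra.ofId k S) eS hpS (P.symm ι)) = e
      rw [hPι, AdjoinRoot.liftAlgHom_root]
      rfl
    have hgen : Algebra.adjoin k {ι} = (⊤ : Subalgebra k (ConstGrp.F k G)) := by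
      refine eq_top_iff.2 fun z _ => ?_
      obtain ⟨w, rfl⟩ := hbij.2 z
      obtain ⟨q, rfl⟩ := AdjoinRoot.mk_surjective w
      rw [← AdjoinRoot.aeval_eq, ← Polynomial.aeval_algHom_apply, hπ]
      exact Polynomial.aeval_mem_adjoin_singleton k ι
    have hc : (Bialgebra.counitAlgHom k (CartDual.D k A)).comp φ = Bialgebra.counitAlgHom k (ConstGrp.F k G) :=
      AlgHom.ext_of_adjoin_eq_top hgen (by
        rintro z rfl
        show Coalgebra.counit (R := k) (φ ι) = Coalgebra.counit (R := k) ι
        rw [hφι, heε, ConstGrp.counit_apply]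
        simp [ι])
    have hΔ : (Algebra.TensorProduct.map φ φ).comp (Bialgebra.comulAlgHom k (ConstGrp.F k G)) =
        (Bialgebra.comulAlgHom k (CartDual.D k A)).comp φ :=
      AlgHom.ext_of_adjoin_eq_top hgen (by
        rintro z rfl
        show Algebra.TensorProduct.map φ φ (Coalgebra.comul ι) = Coalgebra.comul (φ ι)
        rw [hι, hφι, hprim, map_add, Algebra.TensorProduct.map_tmul, Algebra.TensorProduct.map_tmul, hφι, map_one])
    haveI : CharP (MonoidAlgebra k G) p := charP_of_injective_algebraMap (algebraMap k (MonoidAlgebra k G)).injective p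
    refine exists_surjective_of_dual p (fun a ha => ⟨p, ?_⟩) ?_ E ι hι (BialgHom.ofAlgHom φ hc hΔ)
      (by show φ ι ≠ 0; rw [hφι]; exact he0)
    · have key : ∀ y : MonoidAlgebra k G, y ^ p = algebraMap k _ (Bialgebra.counitAlgHom k (MonoidAlgebra k G) y ^ p) := by
        intro y
        induction y using MonoidAlgebra.induction_linear with
        | zero => simp [zero_pow (Fact.out : p.Prime).ne_zero]
        | single g r =>
          have hg : g ^ p = 1 := by
            have := pow_card_eq_one (x := (g : Multiplicative (ZMod p)))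
            rwa [Fintype.card_multiplicative, ZMod.card] at this
          simp [MonoidAlgebra.single_pow, hg, MonoidAlgebra.coe_algebraMap]
        | add y z hy hz => rw [add_pow_char, map_add, add_pow_char, map_add, hy, hz]
      rw [key, ha, zero_pow (Fact.out : p.Prime).ne_zero, map_zero]
    · rw [Module.finrank_eq_card_basis (MonoidAlgebra.basis G k)]
      simp [G]

/-- Group schemes of prime order over an algebraically closed field. -/
theorem nonempty_bialgEquiv_of_finrank_prime [IsAlgClosed k] (p : ℕ) [Fact p.Prime] [CharP k p] {A : Type v}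
    [CommRing A] [HopfAlgebra k A] (ℓ : ℕ) [Fact ℓ.Prime] (hA : Module.finrank k A = ℓ) :
    (ℓ ≠ p → Nonempty (A ≃ₐc[k] ConstGrp.F k (Multiplicative (ZMod ℓ)))) ∧
      (ℓ = p → Nonempty (A ≃ₐc[k] ConstGrp.F k (Multiplicative (ZMod p))) ∨
        Nonempty (A ≃ₐc[k] MonoidAlgebra k (Multiplicative (ZMod p))) ∨
        Nonempty (A ≃ₐc[k] AlphaP.A p k)) := by
  classical
  haveI : Module.Finite k A := Module.finite_of_finrank_pos (hA ▸ (Fact.out : ℓ.Prime).pos)
  have := finite_pt k A
  obtain ⟨d, a, hn, hd, hJ⟩ := exists_split (k := k) (A := A)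
  rw [ringExpChar.eq k p] at hd
  by_cases hred : IsReduced A
  · -- constant
    suffices h : Nonempty (A ≃ₐc[k] ConstGrp.F k (Multiplicative (ZMod ℓ))) from
      ⟨fun _ => h, fun e => Or.inl (by subst e; exact h)⟩
    let Φ : A →ₗ[k] (WithConv (A →ₐ[k] k) → k) := LinearMap.pi fun γ => γ.ofConv.toLinearMap
    have hΦ : Function.Injective Φ := by
      refine (injective_iff_map_eq_zero Φ).2 fun x hx => ?_
      have hmem : x ∈ nilradical A := iInf_ptIdeal_le ((Submodule.mem_iInf _).2 fun γ => congrFun hx γ)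
      exact (mem_nilradical.1 hmem).eq_zero
    have hcard : Nat.card (WithConv (A →ₐ[k] k)) = ℓ := by
      cases nonempty_fintype (WithConv (A →ₐ[k] k))
      have h1 := LinearMap.finrank_le_finrank_of_injective hΦ
      rw [hA, Module.finrank_fintype_fun_eq_card, ← Nat.card_eq_fintype_card] at h1
      have hd0 : 0 < d := by rw [hd]; exact pow_pos (Fact.out : p.Prime).pos _
      rw [hA] at hn
      nlinarith [hn, h1]
    haveI : IsCyclic (WithConv (A →ₐ[k] k)) := isCyclic_of_prime_card hcard
    let g : Multiplicative (ZMod ℓ) ≃* WithConv (A →ₐ[k] k) := hcard ▸ zmodCyclicMulEquiv inferInstance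
    let φ : A →ₐ[k] ConstGrp.F k (Multiplicative (ZMod ℓ)) :=
      Pi.algHom k (fun _ => k) fun b => (g b).ofConv
    have hφ : ∀ x b, φ x b = (g b).ofConv x := fun x b => rfl
    have hc : (Bialgebra.counitAlgHom k _).comp φ = Bialgebra.counitAlgHom k A := by
      refine AlgHom.ext fun x => ?_
      show Coalgebra.counit (R := k) (φ x) = Coalgebra.counit (R := k) x
      rw [ConstGrp.counit_apply, hφ, map_one]
      exact AlgHom.convOne_apply x
    have hΔ : (Algebra.TensorProduct.map φ φ).comp (Bialgebra.comulAlgHom k A) =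
        (Bialgebra.comulAlgHom k _).comp φ := by
      refine AlgHom.ext fun x => CartDualLib.pair_injective k _ (funext fun ab => ?_)
      obtain ⟨u, v⟩ := ab
      show ConstGrp.pair k _ (Algebra.TensorProduct.map φ φ (Coalgebra.comul x)) (u, v) =
        ConstGrp.pair k _ (Coalgebra.comul (φ x)) (u, v)
      rw [ConstGrp.pair_comul, hφ, map_mul]
      let 𝓡 := Coalgebra.Repr.arbitrary k x
      conv_lhs => rw [← 𝓡.eq, map_sum, map_sum, ConstGrp.sum_apply]
      simp only [Algebra.TensorProduct.map_tmul, ConstGrp.pair_tmul, hφ]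
      exact (𝓡.convMul_apply (toConv (g u).ofConv.toLinearMap) (toConv (g v).ofConv.toLinearMap)).symm
    have hb : Function.Bijective φ := by
      have hi : Function.Injective φ.toLinearMap := fun x y h => hΦ (funext fun γ => by
        obtain ⟨b, rfl⟩ := g.surjective γ
        exact congrFun h b)
      have hfr : Module.finrank k A = Module.finrank k (ConstGrp.F k (Multiplicative (ZMod ℓ))) := by
        rw [hA, Module.finrank_eq_card_basis (ConstGrp.basis k _), Fintype.card_multiplicative, ZMod.card]
      exact ⟨hi, (LinearMap.injective_iff_surjective_of_finrank_eq_finrank hfr).1 hi⟩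
    exact ⟨BialgEquiv.ofBijective (R := k) (A := A) (B := ConstGrp.F k (Multiplicative (ZMod ℓ)))
      (BialgHom.ofAlgHom φ hc hΔ) hb⟩
  · have ha : a ≠ 0 := by
      rintro rfl
      apply hred
      rw [pow_zero] at hd
      rw [hd, pow_one] at hJ
      refine ⟨fun x hx => ?_⟩
      have : x ∈ (⨅ γ : WithConv (A →ₐ[k] k), ptIdeal γ) := (Submodule.mem_iInf _).2 fun γ =>
        (hx.map γ.ofConv).eq_zero
      rw [hJ] at this
      exact this
    have hpl : p ∣ ℓ := by
      rw [← hA, hn, hd]
      exact Dvd.dvd.mul_left (dvd_pow_self p ha) _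
    have hlp : ℓ = p := ((Nat.prime_dvd_prime_iff_eq (Fact.out : p.Prime) (Fact.out : ℓ.Prime)).1 hpl).symm
    refine ⟨fun h => absurd hlp h, fun _ => Or.inr ?_⟩
    rcases exists_surjective_mu_or_alpha (k := k) p hred with ⟨f, hf⟩ | ⟨f, hf⟩
    · have hfr : Module.finrank k A = Module.finrank k (MonoidAlgebra k (Multiplicative (ZMod p))) := by
        rw [hA, hlp, Module.finrank_eq_card_basis (MonoidAlgebra.basis _ k), Fintype.card_multiplicative, ZMod.card]
      exact Or.inl ⟨BialgEquiv.ofBijective (R := k) (A := A) (B := MonoidAlgebra k (Multiplicative (ZMod p))) f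
        ⟨(LinearMap.injective_iff_surjective_of_finrank_eq_finrank (f := (f.toLinearMap)) hfr).2 hf, hf⟩⟩
    · have hfr : Module.finrank k A = Module.finrank k (AlphaP.A p k) := by rw [hA, hlp, AlphaP.finrank_eq]
      exact Or.inr ⟨BialgEquiv.ofBijective (R := k) (A := A) (B := AlphaP.A p k) f
        ⟨(LinearMap.injective_iff_surjective_of_finrank_eq_finrank (f := (f.toLinearMap)) hfr).2 hf, hf⟩⟩

end Groth.Agent.FinHopf
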