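import Groth.Agent.FinHopf.BaseChange
import Groth.Agent.CartDualLib.Examples
import Groth.Agent.HopfFF.Kernel
import Groth.Agent.VerschLib.Etale
import Mathlib

/-!
# Constant finite group schemes over an algebraically closed field
-/

set_option autoImplicit false

universe u v w

open scoped TensorProduct

namespace Groth.Agent.FinHopf

open WithConv

variable {k : Type u} [Field k] {A : Type v} [CommRing A] [HopfAlgebra k A]

/-- Evaluation at a group of rational points, as a bialgebra map. -/
theorem exists_evalHom {G : Type w} [Group G] [Fintype G] [DecidableEq G] (g : G →* WithConv (A →ₐ[k] k)) :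
    ∃ φ : A →ₐc[k] ConstGrp.F k G, ∀ x b, φ x b = (g b).ofConv x := by
  let φ : A →ₐ[k] ConstGrp.F k G := Pi.algHom k (fun _ => k) fun b => (g b).ofConv
  have hφ : ∀ x b, φ x b = (g b).ofConv x := fun x b => rfl
  have hc : (Bialgebra.counitAlgHom k _).comp φ = Bialgebra.counitAlgHom k A := by
    refine AlgHom.ext fun x => ?_
    show Coalgebra.counit (R := k) (φ x) = Coalgebra.counit (R := k) x
    rw [ConstGrp.counit_apply, hφ, map_one]
    exact AlgHom.convOne_apply x
  have hΔ : (Algebra.TensorProduct.map φ φ).comp (Bialgebra.comulAlgHom k A) =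
      (Bialgebra.comulAlgHom k _).comp φ := by
    refine AlgHom.ext fun x => CartDualLib.pair_injective k _ (funext fun ab => ?_)
    obtain ⟨u, v⟩ := ab
    show ConstGrp.pair k _ (Algebra.TensorProduct.map φ φ (Coalgebra.comul x)) (u, v) =
      ConstGrp.pair k _ (Coalgebra.comul (φ x)) (u, v)
    rw [ConstGrp.pair_comul, hφ, map_mul]
    let 𝓡 := Coalgebra.Repr.arbitrary k x
    conv_lhs => rw [← 𝓡.eq, map_sum, map_sum, ConstGrp.sum_apply]
    simp only [Algebra.TensorProduct.map_tmul, ConstGrp.pair_tmul, hφ]
    exact (𝓡.convMul_apply (toConv (g u).ofConv.toLinearMap) (toConv (g v).ofConv.toLinearMap)).symm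
  exact ⟨BialgHom.ofAlgHom φ hc hΔ, hφ⟩

/-- A reduced finite Hopf algebra over an algebraically closed field: functions on its points. -/
theorem bijective_eval_points [IsAlgClosed k] [Module.Finite k A] [IsReduced A] :
    Function.Bijective (fun (x : A) (γ : WithConv (A →ₐ[k] k)) => γ.ofConv x) ∧
      Nat.card (WithConv (A →ₐ[k] k)) = Module.finrank k A := by
  classical
  have := finite_pt k A
  cases nonempty_fintype (WithConv (A →ₐ[k] k))
  obtain ⟨d, a, hn, hd, hJ⟩ := exists_split (k := k) (A := A)
  let Φ : A →ₗ[k] (WithConv (A →ₐ[k] k) → k) := LinearMap.pi fun γ => γ.ofConv.toLinearMap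
  have hΦ : Function.Injective Φ := by
    refine (injective_iff_map_eq_zero Φ).2 fun x hx => ?_
    exact (mem_nilradical.1 (iInf_ptIdeal_le ((Submodule.mem_iInf _).2 fun γ => congrFun hx γ))).eq_zero
  haveI : Nontrivial A := (Bialgebra.counitAlgHom k A).toRingHom.domain_nontrivial
  have hpos : 0 < Module.finrank k A := Module.finrank_pos
  have h1 := LinearMap.finrank_le_finrank_of_injective hΦ
  rw [Module.finrank_fintype_fun_eq_card, ← Nat.card_eq_fintype_card] at h1
  have hd1 : d = 1 := by
    rcases Nat.lt_or_ge d 2 with h | h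
    · interval_cases d
      · simp at hn; omega
      · rfl
    · nlinarith [hn, h1]
  have hcard : Nat.card (WithConv (A →ₐ[k] k)) = Module.finrank k A := by rw [hn, hd1, mul_one]
  refine ⟨⟨hΦ, ?_⟩, hcard⟩
  exact (LinearMap.injective_iff_surjective_of_finrank_eq_finrank (f := Φ)
    (by rw [Module.finrank_fintype_fun_eq_card, ← Nat.card_eq_fintype_card, hcard])).1 hΦ

theorem finrank_prime_of_simple [IsAlgClosed k] [Coalgebra.IsCocomm k A] [Module.Finite k A] [IsReduced A]
    (hA : 1 < Module.finrank k A)
    (hsimple : ∀ I : Ideal A, I.IsHopfIdeal k → I = ⊥ ∨ I = RingHom.ker (Bialgebra.counitAlgHom k A)) :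
    (Module.finrank k A).Prime := by
  classical
  have := finite_pt k A
  cases nonempty_fintype (WithConv (A →ₐ[k] k))
  obtain ⟨hbij, hcard⟩ := bijective_eval_points (k := k) (A := A)
  set n := Module.finrank k A
  haveI : Fact n.minFac.Prime := ⟨Nat.minFac_prime (by omega)⟩
  obtain ⟨x, hx⟩ := exists_prime_orderOf_dvd_card' (G := WithConv (A →ₐ[k] k)) n.minFac (hcard ▸ n.minFac_dvd)
  let H := Subgroup.zpowers x
  obtain ⟨φ, hφ⟩ := exists_evalHom (k := k) (A := A) H.subtype
  have hHtop : H = ⊤ := by
    rcases hsimple _ (HopfFF.isHopfIdeal_ker φ) with h | h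
    · refine eq_top_iff.2 fun γ _ => ?_
      by_contra hγ
      obtain ⟨a, ha⟩ := hbij.2 (Pi.single γ 1)
      have hmem : a ∈ RingHom.ker (φ : A →ₐ[k] ConstGrp.F k H) := by
        refine funext fun b => ?_
        show φ a b = 0
        rw [hφ]
        refine (congrFun ha b).trans (Pi.single_eq_of_ne ?_ _)
        exact fun e => hγ (e ▸ b.2)
      rw [h, Submodule.mem_bot] at hmem
      have := congrFun ha γ
      simp [hmem] at this
    · exfalso
      have hx1 : x = 1 := by
        refine WithConv.ofConv_injective (AlgHom.ext fun a => ?_)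
        have hmem : a - algebraMap k A (Bialgebra.counitAlgHom k A a) ∈ RingHom.ker (φ : A →ₐ[k] ConstGrp.F k H) := by
          rw [h]; simp
        have h2 := congrFun (show φ (a - algebraMap k A (Bialgebra.counitAlgHom k A a)) = 0 from hmem)
          ⟨x, Subgroup.mem_zpowers x⟩
        rw [hφ, map_sub, AlgHom.commutes, ConstGrp.zero_apply, sub_eq_zero] at h2
        exact h2.trans (AlgHom.convOne_apply a).symm
      rw [hx1, orderOf_one] at hx
      exact (Fact.out : n.minFac.Prime).ne_one hx.symm
  have hn : n = n.minFac := by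
    rw [← hx, ← Nat.card_zpowers, ← hcard]
    show Nat.card _ = Nat.card H
    rw [hHtop, Nat.card_congr (Equiv.Set.univ _).symm]
    rfl
  rw [hn]
  exact Nat.minFac_prime (by omega)

section Etale

variable (p : ℕ) [Fact p.Prime] [CharP k p]

theorem etale_of_isReduced_baseChange [Module.Finite k A] (K : Type u) [Field K] [IsAlgClosed K]
    [Algebra k K] [IsReduced (K ⊗[k] A)] : Algebra.Etale k A := by
  classical
  have := finite_pt K (K ⊗[k] A)
  cases nonempty_fintype (WithConv (K ⊗[k] A →ₐ[K] K))
  let Φ : (K ⊗[k] A) →ₐ[K] (WithConv (K ⊗[k] A →ₐ[K] K) → K) :=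
    Pi.algHom K (fun _ => K) fun γ => γ.ofConv
  have hb : Function.Bijective Φ := (bijective_eval_points (k := K) (A := K ⊗[k] A)).1
  haveI : Algebra.Etale K (K ⊗[k] A) := Algebra.Etale.of_equiv (AlgEquiv.ofBijective Φ hb).symm
  exact Algebra.Etale.of_etale_tensorProduct_of_faithfullyFlat K

theorem etale_of_not_dvd_finrank {A : Type u} [CommRing A] [HopfAlgebra k A] [Module.Finite k A]
    (h : ¬ p ∣ Module.finrank k A) : Algebra.Etale k A := by
  haveI : CharP (AlgebraicClosure k) p := charP_of_injective_algebraMap (algebraMap k (AlgebraicClosure k)).injective p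
  haveI : IsReduced (AlgebraicClosure k ⊗[k] A) := isReduced_of_finrank_ne_zero
    (by rw [Module.finrank_baseChange, Ne, CharP.cast_eq_zero_iff (AlgebraicClosure k) p]; exact h)
  exact etale_of_isReduced_baseChange (AlgebraicClosure k)

theorem not_dvd_finrank_of_etale_of_bijective {A : Type u} [CommRing A] [HopfAlgebra k A] [Coalgebra.IsCocomm k A]
    [Module.Finite k A] [Algebra.Etale k A] [Algebra.Etale k (CartDual.D k A)] :
    ¬ p ∣ Module.finrank k A := by
  classical
  intro hp
  haveI : Nontrivial A := (Bialgebra.counitAlgHom k A).toRingHom.domain_nontrivial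
  haveI : CharP A p := charP_of_injective_algebraMap (algebraMap k A).injective p
  have hsurj : Function.Surjective (SGA3b.powConv k A p) := by
    let bA := Module.finBasis k A
    let x : Fin (Module.finrank k A) → CartDual.D k A := fun i => toConv (bA.coord i)
    have hb : ∀ a, ∑ i, x i a • bA i = a := fun a => bA.sum_repr a
    have hli : LinearIndependent k fun i => bA i ^ p := by
      refine linearIndependent_of_top_le_span_of_card_eq_finrank (fun y _ => ?_) (Fintype.card_fin _)
      obtain ⟨z, rfl⟩ := VerschLib.surjective_relFrob_of_etale (k := k) (B := A) p y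
      induction z using TensorProduct.induction_on with
      | zero => rw [map_zero]; exact zero_mem _
      | add u w hu hw => rw [map_add]; exact add_mem (hu trivial) (hw trivial)
      | tmul u t =>
        rw [VerschLib.relFrob_tmul, mul_comm, ← Algebra.smul_def]
        refine Submodule.smul_mem _ _ ?_
        rw [← bA.sum_repr u, sum_pow_char p]
        exact Submodule.sum_mem _ fun i _ => by
          rw [smul_pow]; exact Submodule.smul_mem _ _ (Submodule.subset_span ⟨i, rfl⟩)
    have hinj : Function.Injective (SGA3b.powConv k A p).toLinearMap := by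
      refine (injective_iff_map_eq_zero _).2 fun a ha => ?_
      have hc := Fintype.linearIndependent_iff.1 hli _ ((VerschLib.powConv_eq p hb a).symm.trans ha)
      refine (Module.forall_dual_apply_eq_zero_iff k a).1 fun f => ?_
      obtain ⟨z, hz⟩ := VerschLib.surjective_relFrob_of_etale (k := k) (B := CartDual.D k A) p (toConv f)
      show (toConv f : CartDual.D k A) a = 0
      rw [← hz]
      clear hz
      induction z using TensorProduct.induction_on with
      | zero => rw [map_zero]; rfl
      | add u w hu hw =>
        rw [map_add]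
        show (FrobAlg.relFrob p k (CartDual.D k A) u) a + (FrobAlg.relFrob p k (CartDual.D k A) w) a = 0
        rw [hu, hw, add_zero]
      | tmul u t =>
        rw [Versch.relFrob_dual_tmul_apply]
        have hu : u = ∑ i, u (bA i) • x i := by
          apply WithConv.ofConv_injective
          refine LinearMap.ext fun c => ?_
          conv_lhs => rw [← hb c, map_sum]
          rw [WithConv.ofConv_sum, LinearMap.sum_apply]
          refine Finset.sum_congr rfl fun i _ => ?_
          rw [map_smul, WithConv.ofConv_smul, LinearMap.smul_apply, smul_eq_mul, smul_eq_mul, mul_comm]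
        rw [hu, sum_pow_char p, CartDual.coe_apply, WithConv.ofConv_sum, LinearMap.sum_apply,
          Finset.sum_eq_zero fun i _ => ?_, mul_zero]
        rw [smul_pow, WithConv.ofConv_smul, LinearMap.smul_apply, ← CartDual.coe_apply, hc i, smul_zero]
    exact (LinearMap.injective_iff_surjective (f := (SGA3b.powConv k A p).toLinearMap)).1 hinj
  obtain ⟨e, m, hnm, hm⟩ := Nat.exists_eq_pow_mul_and_not_dvd (n := Module.finrank k A) (Module.finrank_pos.ne') p
    (Fact.out : p.Prime).ne_one
  have hkill : SGA3b.powConv k A (Module.finrank k A) = (Algebra.ofId k A).comp (Bialgebra.counitAlgHom k A) := by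
    rw [SGA3b.powConv, convPow_id_eq_one_of_isReduced (R := k) (A := A) _ (fun q => by
      rw [Module.rankAtStalk_eq_finrank_of_free]; rfl)]
    rfl
  have hmkill : ∀ a, SGA3b.powConv k A m a = algebraMap k A (Coalgebra.counit a) := by
    have hstep : ∀ i, (∀ a, SGA3b.powConv k A (p ^ i * m) a = algebraMap k A (Coalgebra.counit a)) →
        ∀ a, SGA3b.powConv k A m a = algebraMap k A (Coalgebra.counit a) := by
      intro i
      induction i with
      | zero => intro h a; simpa using h a
      | succ i ih =>
        intro h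
        refine ih fun a => ?_
        obtain ⟨b, rfl⟩ := hsurj a
        rw [VerschLib.powConv_comp, show p ^ i * m * p = p ^ (i + 1) * m by ring, h, VerschLib.counit_powConv]
    refine hstep e fun a => ?_
    rw [← hm, hkill]
    rfl
  let K := AlgebraicClosure k
  haveI : IsReduced (K ⊗[k] A) := Algebra.FormallyUnramified.isReduced_of_field K _
  have := finite_pt K (K ⊗[k] A)
  obtain ⟨-, hcard⟩ := bijective_eval_points (k := K) (A := K ⊗[k] A)
  obtain ⟨x, hx⟩ := exists_prime_orderOf_dvd_card' (G := WithConv (K ⊗[k] A →ₐ[K] K)) p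
    (by rw [hcard, Module.finrank_baseChange]; exact hp)
  have hxm : x ^ m = 1 := by
    have h1 : postComp (C := K ⊗[k] A) x.ofConv (toConv (AlgHom.id K (K ⊗[k] A)) ^ m) = x ^ m := by
      rw [map_pow]; rfl
    rw [← h1]
    apply WithConv.ofConv_injective
    refine Algebra.TensorProduct.ext (Subsingleton.elim _ _) (AlgHom.ext fun a => ?_)
    show x.ofConv (SGA3b.powConv K (K ⊗[k] A) m (1 ⊗ₜ[k] a)) = (1 : WithConv (K ⊗[k] A →ₐ[K] K)) (1 ⊗ₜ[k] a)
    rw [VerschLib.powConv_one_tmul, hmkill, AlgHom.convOne_apply, TensorProduct.counit_tmul,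
      CommSemiring.counit_apply, Algebra.algebraMap_eq_smul_one (R := k) (A := A), TensorProduct.tmul_smul,
      show x.ofConv (Coalgebra.counit (R := k) a • ((1 : K) ⊗ₜ[k] (1 : A))) = Coalgebra.counit (R := k) a • (1 : K) from by
        rw [AlgHom.map_smul_of_tower, ← Algebra.TensorProduct.one_def, map_one]]
    simp
  exact hnm (hx ▸ orderOf_dvd_of_pow_eq_one hxm)

end Etale

end Groth.Agent.FinHopf
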