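import Groth.Agent.FinHopf.PerfectStructure
import Groth.Agent.MvPSLib.Eval
import Groth.Agent.CplFin.Basic
import Groth.Agent.AdicRingLib.Height1
import Mathlib

/-!
# Connected finite flat group schemes over complete local rings: power series presentations
-/

set_option autoImplicit false

universe u v w

open scoped TensorProduct
open IsLocalRing

namespace Groth.Agent.FinHopf

/-- Monomials with bounded exponents span an algebra generated by nilpotents of bounded order. -/
theorem span_mono_eq_top {C : Type u} [CommRing C] {A : Type v} [CommRing A] [Algebra C A] {n : ℕ} (z : Fin n → A)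
    (N : Fin n → ℕ) (hz : ∀ i, z i ^ N i = 0) (h : Function.Surjective (MvPolynomial.aeval (R := C) z)) :
    Submodule.span C (Set.range fun t : ∀ i, Fin (N i) => ∏ i, z i ^ (t i : ℕ)) = ⊤ := by
  refine eq_top_iff.2 fun a _ => ?_
  obtain ⟨P, rfl⟩ := h a
  induction P using MvPolynomial.induction_on' with
  | add P Q hP hQ => rw [map_add]; exact add_mem (hP trivial) (hQ trivial)
  | monomial d c =>
    rw [MvPolynomial.aeval_monomial, ← Algebra.smul_def, Finsupp.prod_fintype _ _ (fun i => pow_zero _)]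
    refine Submodule.smul_mem _ _ ?_
    by_cases hd : ∀ i, d i < N i
    · exact Submodule.subset_span ⟨fun i => ⟨d i, hd i⟩, rfl⟩
    · push Not at hd
      obtain ⟨i, hi⟩ := hd
      rw [Finset.prod_eq_zero (Finset.mem_univ i) (show z i ^ d i = 0 from pow_eq_zero_of_le hi (hz i))]
      exact zero_mem _

/-- Monomials with bounded exponents span a quotient of power series by deformed monomial relations. -/
theorem surjective_monomials {R : Type u} [CommRing R] [IsLocalRing R] [IsNoetherianRing R]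
    [IsAdicComplete (maximalIdeal R) R] {n : ℕ} (N : Fin n → ℕ) (g : Fin n → MvPolynomial (Fin n) R)
    (hg : ∀ i d, (g i).coeff d ∈ maximalIdeal R) {A : Type v} [CommRing A] [HopfAlgebra R A] [Nontrivial A]
    (Ψ : (MvPowerSeries (Fin n) R ⧸
      Ideal.span (Set.range fun i => (MvPowerSeries.X i : MvPowerSeries (Fin n) R) ^ N i + ↑(g i))) →ₐ[R] A) :
    Function.Surjective (Fintype.linearCombination R fun t : ∀ i, Fin (N i) =>
      ∏ i, (Ideal.Quotient.mk (Ideal.span (Set.range fun i =>
        (MvPowerSeries.X i : MvPowerSeries (Fin n) R) ^ N i + ↑(g i))) (MvPowerSeries.X i)) ^ (t i : ℕ)) := by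
  classical
  set J := Ideal.span (Set.range fun i => (MvPowerSeries.X i : MvPowerSeries (Fin n) R) ^ N i + ↑(g i)) with hJ
  let m := maximalIdeal R
  haveI : IsHausdorff m (MvPowerSeries (Fin n) R ⧸ J) := by
    haveI : Nontrivial (MvPowerSeries (Fin n) R ⧸ J) := Ψ.toRingHom.domain_nontrivial
    haveI : IsLocalRing (MvPowerSeries (Fin n) R ⧸ J) :=
      IsLocalRing.of_surjective' (Ideal.Quotient.mk J) Ideal.Quotient.mk_surjective
    refine IsHausdorff.of_map (J := maximalIdeal (MvPowerSeries (Fin n) R ⧸ J)) (Ideal.map_le_iff_le_comap.2 fun r hr => ?_)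
    show algebraMap R _ r ∈ maximalIdeal _
    rw [mem_maximalIdeal, mem_nonunits_iff]
    intro hu
    have := hu.map (Bialgebra.counitAlgHom R A |>.comp Ψ)
    rw [AlgHom.commutes] at this
    exact (mem_maximalIdeal r).1 hr this
  haveI : IsAdicComplete m ((∀ i, Fin (N i)) → R) := AdicRingLib.isAdicComplete_of_finite_free _
  refine surjective_of_mkQ_comp_surjective (I := m) ?_
  let π' : (MvPowerSeries (Fin n) R ⧸ J) →ₐ[R] (MvPowerSeries (Fin n) R ⧸ J) ⧸ m.map (algebraMap R (MvPowerSeries (Fin n) R ⧸ J)) :=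
    Ideal.Quotient.mkₐ R _
  let χ : MvPowerSeries (Fin n) R →ₐ[R] (MvPowerSeries (Fin n) R ⧸ J) ⧸ m.map (algebraMap R (MvPowerSeries (Fin n) R ⧸ J)) :=
    π'.comp (Ideal.Quotient.mkₐ R J)
  let w := fun i => χ (MvPowerSeries.X i)
  have hχP : ∀ P : MvPolynomial (Fin n) R, χ ↑P = MvPolynomial.aeval w P := by
    intro P
    have hcomp : χ.comp (MvPolynomial.coeToMvPowerSeries.algHom R) = MvPolynomial.aeval w :=
      MvPolynomial.algHom_ext fun i => by simp [MvPolynomial.coeToMvPowerSeries.algHom_apply, w]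
    have h := AlgHom.congr_fun hcomp P
    simpa [MvPolynomial.coeToMvPowerSeries.algHom_apply] using h
  have hw : ∀ i, w i ^ N i = 0 := by
    intro i
    have h1 : χ ((MvPowerSeries.X i : MvPowerSeries (Fin n) R) ^ N i + ↑(g i)) = 0 := by
      show π' (Ideal.Quotient.mk J _) = 0
      rw [show Ideal.Quotient.mk J ((MvPowerSeries.X i : MvPowerSeries (Fin n) R) ^ N i + ↑(g i)) = 0 from
        Ideal.Quotient.eq_zero_iff_mem.2 (Ideal.subset_span ⟨i, rfl⟩), map_zero]
    have h2 : χ (↑(g i) : MvPowerSeries (Fin n) R) = 0 := by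
      rw [hχP, MvPolynomial.as_sum (g i), map_sum]
      refine Finset.sum_eq_zero fun d _ => ?_
      rw [MvPolynomial.aeval_monomial,
        show algebraMap R ((MvPowerSeries (Fin n) R ⧸ J) ⧸ m.map (algebraMap R (MvPowerSeries (Fin n) R ⧸ J))) ((g i).coeff d) = 0 from
          Ideal.Quotient.eq_zero_iff_mem.2 (Ideal.mem_map_of_mem _ (hg i d))]
      exact zero_mul (M₀ := (MvPowerSeries (Fin n) R ⧸ J) ⧸ m.map (algebraMap R (MvPowerSeries (Fin n) R ⧸ J))) _
    rw [map_add, h2, add_zero, map_pow] at h1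
    exact h1
  have hgen : Function.Surjective (MvPolynomial.aeval (R := R) w) := by
    intro y
    obtain ⟨q, rfl⟩ := Ideal.Quotient.mkₐ_surjective R _ y
    obtain ⟨P, rfl⟩ := Ideal.Quotient.mk_surjective q
    let X₀ : Ideal (MvPowerSeries (Fin n) R) := Ideal.span (Set.range fun i => (MvPowerSeries.X i : MvPowerSeries (Fin n) R) ^ N i)
    obtain ⟨M, hM⟩ := Ideal.exists_pow_le_of_le_radical_of_fg (I := Groth.Agent.FSAdic.augIdeal R n) (J := X₀) (by
      rw [Groth.Agent.FSAdic.augIdeal_eq_span, Ideal.span_le]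
      rintro _ ⟨i, rfl⟩
      exact ⟨N i, Ideal.subset_span ⟨i, rfl⟩⟩) (IsNoetherian.noetherian _)
    refine ⟨MvPowerSeries.truncTotal M P, ?_⟩
    have hker : ∀ u ∈ X₀, χ u = 0 := by
      intro u hu
      refine (Ideal.span_le (I := RingHom.ker χ)).2 ?_ hu
      rintro _ ⟨i, rfl⟩
      show χ (_ ^ N i) = 0
      rw [map_pow]
      exact hw i
    have h2 := hker _ (hM (Groth.Agent.FSAdic.sub_truncTotal_mem M P))
    rw [map_sub, sub_eq_zero, hχP] at h2
    exact h2.symm
  have hspan := span_mono_eq_top (C := R) w N hw hgen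
  intro y
  obtain ⟨q, rfl⟩ := Submodule.mkQ_surjective _ y
  obtain ⟨v, hv⟩ := (Submodule.mem_span_range_iff_exists_fun R).1
    (show π' q ∈ Submodule.span R (Set.range fun t : ∀ i, Fin (N i) => ∏ i, w i ^ (t i : ℕ)) by rw [hspan]; trivial)
  refine ⟨v, ?_⟩
  rw [LinearMap.comp_apply, Submodule.mkQ_apply, Submodule.mkQ_apply, Submodule.Quotient.eq, Ideal.smul_top_eq_map,
    Submodule.restrictScalars_mem, ← Ideal.Quotient.eq]
  show π' _ = π' q
  rw [← hv, Fintype.linearCombination_apply, map_sum]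
  refine Finset.sum_congr rfl fun t _ => ?_
  rw [map_smul, map_prod]
  refine congrArg (v t • ·) (Finset.prod_congr rfl fun i _ => ?_)
  rw [map_pow]
  rfl

theorem exists_presentation {R : Type u} [CommRing R] [IsLocalRing R] [IsNoetherianRing R]
    [IsAdicComplete (maximalIdeal R) R] (p : ℕ) [Fact p.Prime] [CharP (ResidueField R) p]
    [PerfectField (ResidueField R)] (A : Type v) [CommRing A] [HopfAlgebra R A] [Module.Finite R A]
    [Module.Flat R A] [IsLocalRing A] :
    ∃ (n : ℕ) (e : Fin n → ℕ) (g : Fin n → MvPolynomial (Fin n) R),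
      (∀ i, (∀ d, (g i).coeff d ∈ maximalIdeal R) ∧ (g i).degreeOf i < p ^ e i) ∧
      Nonempty (A ≃ₐ[R] (MvPowerSeries (Fin n) R ⧸
        Ideal.span (Set.range fun i => (MvPowerSeries.X i : MvPowerSeries (Fin n) R) ^ p ^ e i + ↑(g i)))) := by
  classical
  let m := maximalIdeal R
  let k := ResidueField R
  haveI : Module.Free R A := Module.free_of_flat_of_isLocalRing
  haveI : IsNoetherianRing A := IsNoetherianRing.of_finite R A
  let π : A →ₐ[R] k ⊗[R] A := Algebra.TensorProduct.includeRight
  have hπ : Function.Surjective π := TensorProduct.mk_surjective R A k (residue_surjective)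
  haveI : Nontrivial (k ⊗[R] A) := (Bialgebra.counitAlgHom k (k ⊗[R] A)).toRingHom.domain_nontrivial
  haveI : IsLocalRing (k ⊗[R] A) := IsLocalRing.of_surjective' π.toRingHom hπ
  haveI : IsArtinianRing (k ⊗[R] A) := IsArtinianRing.of_finite k _
  have hnil : ∀ a, Bialgebra.counitAlgHom k (k ⊗[R] A) a = 0 → IsNilpotent a := by
    intro a ha
    rw [← mem_nilradical, Ring.KrullDimLE.nilradical_eq_maximalIdeal, IsLocalRing.mem_maximalIdeal, mem_nonunits_iff]
    exact fun hu => not_isUnit_zero (ha ▸ hu.map (Bialgebra.counitAlgHom k (k ⊗[R] A)))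
  obtain ⟨n, xb, D, e, hxε, hgen, -, he, hrank⟩ :=
    exists_coords_truncated p _ (k ⊗[R] A) _ _ (isComul_comul (k := k) (A := k ⊗[R] A)) hnil rfl
  choose x hx using fun i => hπ (xb i)
  let N : Fin n → ℕ := fun i => p ^ e i
  let T := ∀ i, Fin (N i)
  let mon : T → A := fun t => ∏ i, x i ^ (t i : ℕ)
  have hmon : ∀ t, π (mon t) = ∏ i, xb i ^ (t i : ℕ) := fun t => by
    simp only [mon, map_prod, map_pow, hx]
  have hspanb := span_mono_eq_top (C := k) xb N (fun i => (he i).2) (fun a => by
    rw [← AlgHom.mem_range, ← Algebra.adjoin_range_eq_range_aeval, hgen]; trivial)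
  have hmA : ∀ a : A, π a = 0 ↔ a ∈ m • (⊤ : Submodule R A) := by
    intro a
    rw [← Submodule.Quotient.mk_eq_zero (m • (⊤ : Submodule R A)),
      ← show TensorProduct.quotTensorEquivQuotSMul A m (π a) = Submodule.Quotient.mk a from
        TensorProduct.quotTensorEquivQuotSMul_mk_one_tmul m a]
    exact ((TensorProduct.quotTensorEquivQuotSMul A m).map_eq_zero_iff).symm
  have hspanA : Submodule.span R (Set.range mon) = ⊤ := by
    refine IsLocalRing.span_eq_top_of_tmul_eq_basis (R := R) (M := A) mon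
      (Module.Basis.mk (linearIndependent_of_top_le_span_of_card_eq_finrank hspanb.ge ?_) hspanb.ge) fun t => ?_
    · rw [Fintype.card_pi, hrank, ← Finset.prod_pow_eq_pow_sum]
      simp [N]
    · rw [Module.Basis.mk_apply]
      exact hmon t
  let b : Module.Basis T R A := Module.Basis.mk
    (linearIndependent_of_top_le_span_of_card_eq_finrank hspanA.ge (by
      rw [← Module.finrank_baseChange (R := k), hrank, Fintype.card_pi, ← Finset.prod_pow_eq_pow_sum]
      simp [N])) hspanA.ge
  have hb : ∀ t, b t = mon t := fun t => Module.Basis.mk_apply _ _ _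
  let c : Fin n → T → R := fun i t => b.repr (x i ^ N i) t
  have hc : ∀ i, x i ^ N i = ∑ t, c i t • mon t := fun i => by
    conv_lhs => rw [← b.sum_repr (x i ^ N i)]
    simp only [hb, c]
  have hcm : ∀ i t, c i t ∈ m := by
    intro i t
    have h0 : π (x i ^ N i) = 0 := by rw [map_pow, hx]; exact (he i).2
    rw [hmA] at h0
    have := Submodule.mem_map_of_mem (f := b.coord t) h0
    rw [Submodule.map_smul''] at this
    exact (Submodule.smul_mono le_rfl le_top).trans (by rw [smul_eq_mul, Ideal.mul_top]) this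
  let ev : T → Fin n →₀ ℕ := fun t => Finsupp.equivFunOnFinite.symm fun i => (t i : ℕ)
  let g : Fin n → MvPolynomial (Fin n) R := fun i => ∑ t, MvPolynomial.monomial (ev t) (- c i t)
  have hgc : ∀ i d, (g i).coeff d ∈ m := by
    intro i d
    simp only [g, MvPolynomial.coeff_sum, MvPolynomial.coeff_monomial]
    refine Ideal.sum_mem _ fun t _ => ?_
    split_ifs
    · exact neg_mem (hcm i t)
    · exact zero_mem _
  have hgd : ∀ i, (g i).degreeOf i < p ^ e i := by
    intro i
    refine (MvPolynomial.degreeOf_lt_iff (pow_pos (Fact.out : p.Prime).pos _)).2 fun d hd => ?_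
    obtain ⟨t, -, ht⟩ := Finset.mem_biUnion.1 (MvPolynomial.support_sum hd)
    rw [Finset.mem_singleton.1 (MvPolynomial.support_monomial_subset ht)]
    exact (t i).2
  refine ⟨n, e, g, fun i => ⟨hgc i, hgd i⟩, ?_⟩
  -- the evaluation map
  let JA : Ideal A := m.map (algebraMap R A)
  haveI hJA : IsAdicComplete JA A := AdicRingLib.isAdicComplete_map_of_finite_free A
  haveI hAc : IsAdicComplete (maximalIdeal A) A := by
    have hle : JA ≤ maximalIdeal A := by
      have := IsAdicComplete.le_jacobson_bot JA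
      rwa [IsLocalRing.jacobson_eq_maximalIdeal ⊥ bot_ne_top] at this
    obtain ⟨M, hM⟩ := IsArtinianRing.isNilpotent_jacobson_bot (R := k ⊗[R] A)
    rw [IsLocalRing.jacobson_eq_maximalIdeal ⊥ bot_ne_top] at hM
    refine CplFin.isAdicComplete_of_le_of_pow_le A JA (maximalIdeal A) hle (M + 1) (Nat.succ_ne_zero _) ?_
    intro a ha
    have h1 : π a ∈ maximalIdeal (k ⊗[R] A) ^ (M + 1) := by
      have h2 : (maximalIdeal A).map π.toRingHom ≤ maximalIdeal (k ⊗[R] A) := by
        rw [Ideal.map_le_iff_le_comap]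
        intro u hu
        haveI : IsLocalHom π.toRingHom := IsLocalHom.of_surjective π.toRingHom hπ
        exact (mem_maximalIdeal _).2 fun hu' => (mem_maximalIdeal _).1 hu (IsLocalHom.map_nonunit u hu')
      have h3 := Ideal.mem_map_of_mem π.toRingHom ha
      rw [Ideal.map_pow] at h3
      exact Ideal.pow_right_mono h2 _ h3
    rw [pow_succ, hM, zero_mul, Ideal.zero_eq_bot, Ideal.mem_bot, hmA, Ideal.smul_top_eq_map,
      Submodule.restrictScalars_mem] at h1
    exact h1
  have hxmax : ∀ i, x i ∈ maximalIdeal A := by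
    intro i
    rw [mem_maximalIdeal, mem_nonunits_iff]
    intro hu
    have := (hu.map π).map (Bialgebra.counitAlgHom k (k ⊗[R] A))
    rw [hx, hxε] at this
    exact not_isUnit_zero this
  obtain ⟨ψ, hψ⟩ := MvPSLib.exists_algHom (A := R) (maximalIdeal A) x hxmax
  have hψP : ∀ P : MvPolynomial (Fin n) R, ψ (↑P) = MvPolynomial.aeval x P := by
    intro P
    have : ψ.comp (MvPolynomial.coeToMvPowerSeries.algHom R) = MvPolynomial.aeval x :=
      MvPolynomial.algHom_ext fun i => by
        simp [MvPolynomial.coeToMvPowerSeries.algHom_apply, hψ]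
    have h := AlgHom.congr_fun this P
    simpa [MvPolynomial.coeToMvPowerSeries.algHom_apply] using h
  let J := Ideal.span (Set.range fun i => (MvPowerSeries.X i : MvPowerSeries (Fin n) R) ^ p ^ e i + ↑(g i))
  let Ψ : (MvPowerSeries (Fin n) R ⧸ J) →ₐ[R] A := Ideal.Quotient.liftₐ J ψ (by
    intro z hz
    refine (Ideal.span_le (I := RingHom.ker ψ)).2 ?_ hz
    rintro _ ⟨i, rfl⟩
    show ψ _ = 0
    rw [map_add, map_pow, hψ, hψP, map_sum, show x i ^ p ^ e i = x i ^ N i from rfl, hc, ← Finset.sum_add_distrib]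
    refine Finset.sum_eq_zero fun t _ => ?_
    rw [MvPolynomial.aeval_monomial, Finsupp.prod_fintype _ _ (fun i => pow_zero _), map_neg, neg_mul, ← Algebra.smul_def,
      ← sub_eq_add_neg, sub_eq_zero]
    simp [mon, ev])
  let z : Fin n → MvPowerSeries (Fin n) R ⧸ J := fun i => Ideal.Quotient.mk J (MvPowerSeries.X i)
  let f : (T → R) →ₗ[R] MvPowerSeries (Fin n) R ⧸ J := Fintype.linearCombination R fun t => ∏ i, z i ^ (t i : ℕ)
  have hΨf : ∀ v, Ψ (f v) = b.equivFun.symm v := by
    intro v
    rw [Fintype.linearCombination_apply, map_sum, b.equivFun_symm_apply]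
    refine Finset.sum_congr rfl fun t _ => ?_
    rw [map_smul, map_prod, hb]
    congr 1
    refine Finset.prod_congr rfl fun i _ => ?_
    rw [map_pow]
    congr 1
    exact hψ i
  have hfs : Function.Surjective f := surjective_monomials N g hgc Ψ
  have hbij : Function.Bijective Ψ := by
    refine ⟨fun u w h => ?_, fun a => ⟨f (b.equivFun a), by rw [hΨf, LinearEquiv.symm_apply_apply]⟩⟩
    obtain ⟨v, rfl⟩ := hfs u
    obtain ⟨v', rfl⟩ := hfs w
    rw [hΨf, hΨf] at h
    rw [b.equivFun.symm.injective h]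
  exact ⟨(AlgEquiv.ofBijective Ψ hbij).symm⟩

end Groth.Agent.FinHopf
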